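import Cfsg.Agent.SchmidtUniv.Model

/-!
The universal minimal non-`p`-nilpotent group with given `q`-part.
-/

set_option autoImplicit false

namespace Cfsg.Agent.SchmidtUniv

open Subgroup SemidirectProduct
open scoped commutatorElement

universe u

/-- Commutators do not change under central factors. -/
theorem commutatorElement_mul_central {G : Type*} [Group G] (l l' n n' : G) (hn : n ∈ center G)
    (hn' : n' ∈ center G) : ⁅l * n, l' * n'⁆ = ⁅l, l'⁆ := by
  have hc := mem_center_iff.1 hn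
  have hc' := mem_center_iff.1 hn'
  simp only [commutatorElement_def, mul_inv_rev]
  calc l * n * (l' * n') * (n⁻¹ * l⁻¹) * (n'⁻¹ * l'⁻¹)
      = l * (n * (l' * n')) * (n⁻¹ * l⁻¹) * (n'⁻¹ * l'⁻¹) := by group
    _ = l * ((l' * n') * n) * (n⁻¹ * l⁻¹) * (n'⁻¹ * l'⁻¹) := by rw [← hc]
    _ = l * l' * (n' * l⁻¹) * n'⁻¹ * l'⁻¹ := by group
    _ = l * l' * (l⁻¹ * n') * n'⁻¹ * l'⁻¹ := by rw [← hc']
    _ = l * l' * l⁻¹ * l'⁻¹ := by group

variable {p q r a : ℕ} [hp : Fact p.Prime] [hq : Fact q.Prime]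
variable {K : Type} [Field K] [Finite K] [Algebra (ZMod p) K] {z : Kˣ} {hz : z ^ (q ^ r) = 1}

/-- Any extension is a quotient, by a central subgroup, of one of the maximal order. -/
theorem exists_surjection (hpq : p ≠ q) (ha : a = orderOf (p : ZMod q)) (hK : Nat.card K = p ^ a)
    (hζ : IsPrimitiveRoot (z : K) q) {E₀ X : Type u} [Group E₀] [Finite E₀] [Group X] [Finite X]
    {π₀ : E₀ →* Base z (q ^ r) hz} {y₀ : E₀} (h₀ : IsExt z (q ^ r) hz p π₀ y₀)
    (hmax : Nat.card E₀ = p ^ (if a % 2 = 1 then a else 3 * a / 2) * q ^ r)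
    {π : X →* Base z (q ^ r) hz} {y : X} (h : IsExt z (q ^ r) hz p π y) :
    ∃ φ : E₀ →* X, Function.Surjective φ ∧ φ.ker ≤ center E₀ := by
  let H : Subgroup (E₀ × X) :=
    (π₀.comp (MonoidHom.fst E₀ X)).eqLocus (π.comp (MonoidHom.snd E₀ X))
  have hH : ∀ w : E₀ × X, w ∈ H ↔ π₀ w.1 = π w.2 := fun w => Iff.rfl
  let yH : H := ⟨(y₀, y), (hH _).2 (h₀.map_y.trans h.map_y.symm)⟩
  let W : Subgroup H := commutator H ⊔ zpowers yH
  let ρ : H →* Base z (q ^ r) hz := (π₀.comp (MonoidHom.fst E₀ X)).comp H.subtype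
  have hρs : Function.Surjective ρ := fun b => by
    obtain ⟨e, he⟩ := h₀.surj b
    obtain ⟨x, hx⟩ := h.surj b
    exact ⟨⟨(e, x), (hH _).2 (he.trans hx.symm)⟩, he⟩
  have hfst : Function.Surjective ((MonoidHom.fst E₀ X).comp H.subtype) := fun e => by
    obtain ⟨x, hx⟩ := h.surj (π₀ e)
    exact ⟨⟨(e, x), (hH _).2 hx.symm⟩, rfl⟩
  have hsnd : Function.Surjective ((MonoidHom.snd E₀ X).comp H.subtype) := fun x => by
    obtain ⟨e, he⟩ := h₀.surj (π x)
    exact ⟨⟨(e, x), (hH _).2 he⟩, rfl⟩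
  have hρker : ∀ w : H, w ∈ ρ.ker → w.1.1 ∈ π₀.ker ∧ w.1.2 ∈ π.ker := fun w hw =>
    ⟨hw, MonoidHom.mem_ker.2 (((hH _).1 w.2).symm.trans hw)⟩
  have hρc : ρ.ker ≤ center H := fun w hw => mem_center_iff.2 fun g => Subtype.ext
    (Prod.ext (mem_center_iff.1 (h₀.central (hρker w hw).1) _)
      (mem_center_iff.1 (h.central (hρker w hw).2) _))
  -- the restrictions to `W`
  have honto : ∀ {M : Type u} [Group M] (f : H →* M), Function.Surjective f →
      commutator M ⊔ zpowers (f yH) = ⊤ → Function.Surjective (f.comp W.subtype) := by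
    intro M _ f hf htop
    rw [← MonoidHom.range_eq_top, MonoidHom.range_comp, range_subtype, eq_top_iff, ← htop,
      Subgroup.map_sup, MonoidHom.map_zpowers, _root_.commutator_def, _root_.commutator_def,
      map_commutator, ← MonoidHom.range_eq_map, MonoidHom.range_eq_top.2 hf]
  have hW0 := honto _ hfst h₀.top
  have hWX := honto _ hsnd h.top
  have hWρ : Function.Surjective (ρ.comp W.subtype) := fun b => by
    obtain ⟨e, he⟩ := h₀.surj b
    obtain ⟨w, hw⟩ := hW0 e
    exact ⟨w, (congrArg π₀ hw).trans he⟩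
  have hdec : ∀ g : H, ∃ w : W, ∃ n ∈ center H, g = (w : H) * n := fun g => by
    obtain ⟨w, hw⟩ := hWρ (ρ g)
    refine ⟨w, (w : H)⁻¹ * g, hρc ?_, (mul_inv_cancel_left _ _).symm⟩
    rw [MonoidHom.mem_ker, map_mul, map_inv, show ρ (w : H) = ρ g from hw, inv_mul_cancel]
  let yW : W := ⟨yH, mem_sup_right (mem_zpowers _)⟩
  have hWtop : commutator W ⊔ zpowers yW = ⊤ := by
    refine Subgroup.map_injective W.subtype_injective ?_
    rw [← MonoidHom.range_eq_map, range_subtype]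
    refine le_antisymm (map_subtype_le _) (sup_le ?_ ?_)
    · rw [_root_.commutator_def, commutator_le]
      intro g _ g' _
      obtain ⟨w, n, hn, rfl⟩ := hdec g
      obtain ⟨w', n', hn', rfl⟩ := hdec g'
      rw [commutatorElement_mul_central _ _ _ _ hn hn']
      exact ⟨⁅w, w'⁆, mem_sup_left (commutator_mem_commutator (mem_top _) (mem_top _)),
        map_commutatorElement W.subtype w w'⟩
    · rw [zpowers_le]
      exact ⟨yW, mem_sup_right (mem_zpowers _), rfl⟩
  have hWext : IsExt z (q ^ r) hz p (ρ.comp W.subtype) yW := by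
    refine ⟨hWρ, fun w hw => mem_center_iff.2 fun g => Subtype.ext
      (mem_center_iff.1 (hρc hw) (g : H)), ?_, ?_, ?_, hWtop⟩
    · intro ⟨w, hw⟩
      obtain ⟨i, hi⟩ := h₀.pker ⟨_, (hρker _ hw).1⟩
      obtain ⟨j, hj⟩ := h.pker ⟨_, (hρker _ hw).2⟩
      have hi' : (w : H).1.1 ^ p ^ i = 1 := congrArg Subtype.val hi
      have hj' : (w : H).1.2 ^ p ^ j = 1 := congrArg Subtype.val hj
      refine ⟨i + j, Subtype.ext (Subtype.ext (Subtype.ext (Prod.ext ?_ ?_)))⟩
      · show (w : H).1.1 ^ p ^ (i + j) = 1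
        rw [pow_add, pow_mul, hi', one_pow]
      · show (w : H).1.2 ^ p ^ (i + j) = 1
        rw [add_comm, pow_add, pow_mul, hj', one_pow]
    · exact h₀.map_y
    · exact Subtype.ext (Subtype.ext (Prod.ext h₀.ord h.ord))
  have hle := hWext.card_le hpq ha hK hζ
  rw [← hmax] at hle
  let e := MulEquiv.ofBijective _ (hW0.bijective_of_nat_card_le hle)
  refine ⟨(((MonoidHom.snd E₀ X).comp H.subtype).comp W.subtype).comp e.symm.toMonoidHom,
    hWX.comp e.symm.surjective, fun g hg => h₀.central ?_⟩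
  have h1 : ((e.symm g : W) : H).1.2 = 1 := hg
  have h2 : ((e.symm g : W) : H).1.1 = g := e.apply_symm_apply g
  have h3 := (hH _).1 ((e.symm g : W) : H).2
  rw [h1, h2, map_one] at h3
  exact h3

end Cfsg.Agent.SchmidtUniv
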