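import Mathlib.FieldTheory.Finite.GaloisField
import Mathlib.RingTheory.RootsOfUnity.PrimitiveRoots
import Mathlib.FieldTheory.Minpoly.Field
import Mathlib.FieldTheory.Normal.Basic
import Mathlib.GroupTheory.Perm.Cycle.Type

/-!
The finite field generated by a primitive `q`-th root of unity in characteristic `p`.
-/

set_option autoImplicit false

namespace Cfsg.Agent.SchmidtUniv

open Polynomial

variable {p q : ℕ} [hp : Fact p.Prime] [hq : Fact q.Prime]

theorem natCast_ne_zero (hpq : p ≠ q) : (p : ZMod q) ≠ 0 := by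
  rw [Ne, ZMod.natCast_eq_zero_iff, Nat.prime_dvd_prime_iff_eq hq.out hp.out]
  exact fun h => hpq h.symm

theorem ord_pos (hpq : p ≠ q) : 0 < orderOf (p : ZMod q) :=
  orderOf_pos_iff.2 (isUnit_iff_ne_zero.2 (natCast_ne_zero hpq)).isOfFinOrder

theorem exists_field (hpq : p ≠ q) :
    ∃ (K : Type) (_ : Field K) (_ : Finite K) (_ : Algebra (ZMod p) K) (ζ : K),
      Nat.card K = p ^ orderOf (p : ZMod q) ∧ IsPrimitiveRoot ζ q := by
  set a := orderOf (p : ZMod q)
  have hc : Nat.card (GaloisField p a) = p ^ a := GaloisField.card p a (ord_pos hpq).ne'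
  have hd : q ∣ Nat.card (GaloisField p a)ˣ := by
    rw [Nat.card_units, hc, ← ZMod.natCast_eq_zero_iff, Nat.cast_sub (Nat.one_le_pow _ _ hp.out.pos),
      Nat.cast_pow, pow_orderOf_eq_one, Nat.cast_one, sub_self]
  obtain ⟨u, hu⟩ := exists_prime_orderOf_dvd_card' q hd
  refine ⟨GaloisField p a, inferInstance, inferInstance, inferInstance, u, hc, ?_⟩
  rw [IsPrimitiveRoot.coe_units_iff, ← hu]
  exact IsPrimitiveRoot.orderOf u

variable {K : Type*} [Field K] [Finite K] [Algebra (ZMod p) K]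
variable {a : ℕ} {ζ : K}

theorem finrank_eq (hK : Nat.card K = p ^ a) : Module.finrank (ZMod p) K = a := by
  haveI : Module.Finite (ZMod p) K := Module.Finite.of_finite
  have := Module.natCard_eq_pow_finrank (K := ZMod p) (V := K)
  rw [hK, Nat.card_zmod] at this
  exact (Nat.pow_right_injective hp.out.two_le this).symm

theorem adjoin_eq_top (ha : a = orderOf (p : ZMod q)) (hK : Nat.card K = p ^ a)
    (hζ : IsPrimitiveRoot ζ q) : IntermediateField.adjoin (ZMod p) {ζ} = ⊤ := by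
  haveI : Module.Finite (ZMod p) K := Module.Finite.of_finite
  set S := IntermediateField.adjoin (ZMod p) {ζ}
  haveI := Fintype.ofFinite S
  have hz : (⟨ζ, IntermediateField.mem_adjoin_simple_self _ _⟩ : S) ≠ 0 := fun h =>
    hζ.ne_zero hq.out.ne_zero (congrArg Subtype.val h)
  have h1 := congrArg Subtype.val (FiniteField.pow_card_sub_one_eq_one _ hz)
  rw [← Nat.card_eq_fintype_card, Module.natCard_eq_pow_finrank (K := ZMod p) (V := S),
    Nat.card_zmod] at h1
  have h2 : q ∣ p ^ Module.finrank (ZMod p) S - 1 := hζ.dvd_of_pow_eq_one _ h1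
  have h3 : a ∣ Module.finrank (ZMod p) S := by
    subst ha
    refine orderOf_dvd_of_pow_eq_one ?_
    rw [← ZMod.natCast_eq_zero_iff, Nat.cast_sub (Nat.one_le_pow _ _ hp.out.pos), sub_eq_zero] at h2
    simpa using h2
  have h4 : Module.finrank (ZMod p) S = Module.finrank (ZMod p) K := by
    refine le_antisymm (Submodule.finrank_le S.toSubalgebra.toSubmodule) ?_
    rw [finrank_eq hK]
    exact Nat.le_of_dvd Module.finrank_pos h3
  exact IntermediateField.eq_of_le_of_finrank_eq le_top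
    (h4.trans IntermediateField.finrank_top'.symm)

theorem exists_aeval (ha : a = orderOf (p : ZMod q)) (hK : Nat.card K = p ^ a)
    (hζ : IsPrimitiveRoot ζ q) (x : K) : ∃ P : (ZMod p)[X], P.natDegree < a ∧ aeval ζ P = x := by
  haveI : Module.Finite (ZMod p) K := Module.Finite.of_finite
  have hi : IsIntegral (ZMod p) ζ := IsIntegral.of_finite _ _
  have h := adjoin_eq_top ha hK hζ
  have hx : x ∈ Algebra.adjoin (ZMod p) {ζ} := by
    rw [← IntermediateField.adjoin_simple_toSubalgebra_of_isAlgebraic hi.isAlgebraic, h]; trivial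
  rw [Algebra.adjoin_singleton_eq_range_aeval] at hx
  obtain ⟨P, rfl⟩ := hx
  have hd : 0 < (minpoly (ZMod p) ζ).natDegree := minpoly.natDegree_pos hi
  refine ⟨P %ₘ minpoly (ZMod p) ζ, ?_, ?_⟩
  · refine (natDegree_modByMonic_lt P (minpoly.monic hi) (fun h1 => by simp [h1] at hd)).trans_le ?_
    exact (minpoly.natDegree_le ζ).trans (finrank_eq hK).le
  · rw [modByMonic_eq_sub_mul_div P (minpoly (ZMod p) ζ), map_sub, map_mul, minpoly.aeval, zero_mul,
      sub_zero]
    rfl

/-- Any `a` consecutive powers of `ζ` generate the additive group. -/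
theorem window (ha : a = orderOf (p : ZMod q)) (hK : Nat.card K = p ^ a) (hζ : IsPrimitiveRoot ζ q)
    (m : ℤ) (A : AddSubgroup K) (hA : ∀ i : ℕ, i < a → ζ ^ (m + i) ∈ A) : A = ⊤ := by
  refine eq_top_iff.2 fun x _ => ?_
  obtain ⟨P, hP, hx⟩ := exists_aeval ha hK hζ (ζ ^ (-m) * x)
  have hz := hζ.ne_zero hq.out.ne_zero
  have h1 : x = ζ ^ m * aeval ζ P := by
    rw [hx, ← mul_assoc, ← zpow_add₀ hz, add_neg_cancel, zpow_zero, one_mul]
  rw [h1, aeval_eq_sum_range' hP, Finset.mul_sum]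
  refine sum_mem fun i hi => ?_
  rw [mul_smul_comm, ← zpow_natCast, ← zpow_add₀ hz, ← ZMod.natCast_zmod_val (P.coeff i),
    Nat.cast_smul_eq_nsmul]
  exact nsmul_mem (hA i (Finset.mem_range.1 hi)) _

theorem aeval_inv_minpoly_ne_zero (ha : a = orderOf (p : ZMod q)) (hK : Nat.card K = p ^ a)
    (hζ : IsPrimitiveRoot ζ q) (hodd : Odd a) (hq2 : q ≠ 2) :
    aeval ζ⁻¹ (minpoly (ZMod p) ζ) ≠ 0 := by
  haveI : Module.Finite (ZMod p) K := Module.Finite.of_finite
  intro h
  obtain ⟨σ, hσ⟩ := minpoly.exists_algEquiv_of_root' (Algebra.IsAlgebraic.isAlgebraic ζ) h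
  obtain ⟨⟨n, hn⟩, hn'⟩ :=
    (FiniteField.bijective_frobeniusAlgEquivOfAlgebraic_pow (ZMod p) K).2 σ
  have hfr : ∀ k : ℕ, ((FiniteField.frobeniusAlgEquivOfAlgebraic (ZMod p) K) ^ k) ζ = ζ ^ p ^ k := by
    intro k
    induction k with
    | zero => simp
    | succ k ih =>
      rw [pow_succ', AlgEquiv.mul_apply, ih,
        FiniteField.coe_frobeniusAlgEquivOfAlgebraic, Fintype.card_eq_nat_card, Nat.card_zmod]
      show (ζ ^ p ^ k) ^ p = _
      rw [← pow_mul, ← pow_succ]
  rw [← hn'] at hσ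
  dsimp only at hσ
  rw [hfr n] at hσ
  have h1 : ζ ^ (p ^ n + 1) = 1 := by
    rw [pow_succ, hσ, inv_mul_cancel₀ (hζ.ne_zero hq.out.ne_zero)]
  have h2 : (p : ZMod q) ^ n + 1 = 0 := by
    simpa using (ZMod.natCast_eq_zero_iff _ _).2 (hζ.dvd_of_pow_eq_one _ h1)
  have h3 : (p : ZMod q) ^ n = -1 := eq_neg_of_add_eq_zero_left h2
  have h4 : a ∣ n := by
    subst ha
    have : orderOf (p : ZMod q) ∣ 2 * n := orderOf_dvd_of_pow_eq_one (by
      rw [mul_comm, pow_mul, h3]; ring)
    exact (Nat.coprime_two_right.2 hodd).dvd_of_dvd_mul_left this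
  obtain ⟨k, rfl⟩ := h4
  subst ha
  rw [pow_mul, pow_orderOf_eq_one, one_pow] at h3
  haveI := Fact.mk (lt_of_le_of_ne hq.out.two_le (Ne.symm hq2))
  exact ZMod.neg_one_ne_one h3.symm

end Cfsg.Agent.SchmidtUniv
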