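import Cfsg.Prelude.Def_Transfer
import Cfsg.Agent.SchmidtUniv.Field
import Cfsg.Agent.Lib.Transfer.Frobenius
import Cfsg.Agent.Lib.Transfer.Hall
import Mathlib.GroupTheory.SemidirectProduct

/-!
The base group `K ⋊ C_{q^r}` and its central extensions by `p`-groups.
-/

set_option autoImplicit false

namespace Cfsg.Agent.SchmidtUniv

open Subgroup SemidirectProduct
open scoped commutatorElement

/-- The homomorphism out of `Multiplicative (ZMod n)` given by an element killed by `n`. -/
noncomputable def zp {G : Type*} [Group G] {n : ℕ} (u : G) (h : u ^ n = 1) :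
    Multiplicative (ZMod n) →* G :=
  AddMonoidHom.toMultiplicativeLeft (ZMod.lift n ⟨zmultiplesHom (Additive G) (Additive.ofMul u), by
    rw [zmultiplesHom_apply, natCast_zsmul, ← ofMul_pow, h]; rfl⟩)

theorem zp_intCast {G : Type*} [Group G] {n : ℕ} (u : G) (h : u ^ n = 1) (k : ℤ) :
    zp u h (Multiplicative.ofAdd (k : ZMod n)) = u ^ k := by
  simp [zp]

theorem zp_one {G : Type*} [Group G] {n : ℕ} (u : G) (h : u ^ n = 1) :
    zp u h (Multiplicative.ofAdd 1) = u := by
  simpa using zp_intCast u h 1

theorem exists_int {n : ℕ} (c : Multiplicative (ZMod n)) :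
    ∃ k : ℤ, c = Multiplicative.ofAdd 1 ^ k := by
  obtain ⟨k, hk⟩ := ZMod.intCast_surjective c.toAdd
  exact ⟨k, by rw [← ofAdd_zsmul, zsmul_one, hk, ofAdd_toAdd]⟩

/-- A nilpotent group has a normal `p`-complement. -/
theorem hasNormalPComplement_of_isNilpotent {E : Type*} [Group E] [Finite E] {p : ℕ}
    [Fact p.Prime] (hE : Group.IsNilpotent E) : Cfsg.HasNormalPComplement p E := by
  obtain ⟨P⟩ : Nonempty (Sylow p E) := inferInstance
  refine Cfsg.Agent.Transfer.hasNormalPComplement_of_normalizer_centralizer P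
    fun Q hQ _ g _ hgp => mem_centralizer_iff.2 fun x hx => ?_
  obtain ⟨i, hi⟩ := IsPGroup.iff_orderOf.1 P.isPGroup' ⟨x, hQ hx⟩
  rw [Subgroup.orderOf_mk] at hi
  exact (Cfsg.Agent.Transfer.nilpotent_commute_of_coprime hE (x := x) (y := g)
    (hi ▸ (hgp.pow_right i).symm)).eq

section Model

variable {K : Type*} [Field K]

/-- Multiplication by units, as automorphisms of the additive group. -/
def mulK : Kˣ →* MulAut (Multiplicative K) where
  toFun u := AddEquiv.toMultiplicative (AddAut.mulLeft u)
  map_one' := MulEquiv.ext fun x => congrArg Multiplicative.ofAdd (one_mul x.toAdd)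
  map_mul' u v := MulEquiv.ext fun x => congrArg Multiplicative.ofAdd (mul_assoc (u : K) v x.toAdd)

theorem mulK_apply (u : Kˣ) (x : Multiplicative K) :
    (mulK u x).toAdd = (u : K) * x.toAdd := rfl

variable (z : Kˣ) (n : ℕ) (hz : z ^ n = 1)

/-- The action of the cyclic group on the field. -/
noncomputable def act : Multiplicative (ZMod n) →* MulAut (Multiplicative K) := mulK.comp (zp z hz)

/-- The base group `K ⋊ C_n`. -/
abbrev Base := Multiplicative K ⋊[act z n hz] Multiplicative (ZMod n)

/-- The distinguished generator of the complement. -/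
noncomputable def gen : Base z n hz := inr (Multiplicative.ofAdd 1)

theorem base_conj (k : ℤ) (u : Multiplicative K) :
    gen z n hz ^ k * inl u * (gen z n hz ^ k)⁻¹ = inl (mulK (z ^ k) u) := by
  rw [gen, ← map_zpow, ← map_inv, ← inl_aut, ← ofAdd_zsmul, zsmul_one, act, MonoidHom.comp_apply,
    zp_intCast]

/-- A central extension of the base group by a `p`-group, generated by its derived group and a
lift of the generator of order dividing `n`. -/
structure IsExt (p : ℕ) {E : Type*} [Group E] (π : E →* Base z n hz) (y : E) : Prop where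
  surj : Function.Surjective π
  central : π.ker ≤ center E
  pker : IsPGroup p π.ker
  map_y : π y = gen z n hz
  ord : y ^ n = 1
  top : commutator E ⊔ zpowers y = ⊤

variable {p q r : ℕ} [hp : Fact p.Prime] [hq : Fact q.Prime]

theorem card_base [Finite K] : Nat.card (Base z n hz) = Nat.card K * n := by
  rw [SemidirectProduct.card, Nat.card_congr Multiplicative.toAdd, Nat.card_congr Multiplicative.toAdd,
    Nat.card_zmod]

theorem base_comm_of_proper [Finite K] [Algebra (ZMod p) K] {a : ℕ}
    (ha : a = orderOf (p : ZMod q)) (hK : Nat.card K = p ^ a) (hn : n = q ^ r)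
    (hζ : IsPrimitiveRoot (z : K) q) (L : Subgroup (Base z n hz)) (hL : L ≠ ⊤) :
    ∀ x ∈ L, ∀ y ∈ L, x * y = y * x := by
  subst hn
  -- an element of `L` outside the kernel of the action
  by_cases hgen : ∀ x ∈ L, ∀ u, act z (q ^ r) hz x.right u = u
  · intro x hx y hy
    refine SemidirectProduct.ext ?_ (mul_comm _ _)
    rw [mul_left, mul_left, hgen x hx, hgen y hy, mul_comm]
  push Not at hgen
  obtain ⟨x₀, hx₀, u₀, hu₀⟩ := hgen
  obtain ⟨k, hk⟩ := exists_int x₀.right
  have hact : act z (q ^ r) hz x₀.right = mulK (z ^ k) := by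
    rw [hk, ← ofAdd_zsmul, zsmul_one, act, MonoidHom.comp_apply, zp_intCast]
  have hqk : ¬ (q : ℤ) ∣ k := by
    intro hd
    refine hu₀ ?_
    have hz1 : z ^ k = 1 := by
      rw [← Units.val_eq_one, Units.val_zpow_eq_zpow_val]
      exact (hζ.zpow_eq_one_iff_dvd k).2 hd
    rw [hact, hz1, map_one, MulAut.one_apply]
  let A : AddSubgroup K := (L.comap inl).toAddSubgroup'
  have hAmem : ∀ u : K, u ∈ A ↔ inl (Multiplicative.ofAdd u) ∈ L := fun u => Iff.rfl
  have hAinv : ∀ u ∈ A, (↑(z ^ k) : K) * u ∈ A := by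
    intro u hu
    rw [hAmem] at hu ⊢
    have h1 : x₀ * inl (Multiplicative.ofAdd u) * x₀⁻¹ =
        inl (mulK (z ^ k) (Multiplicative.ofAdd u)) := by
      refine SemidirectProduct.ext ?_ (by simp)
      simp only [mul_left, mul_right, left_inl, right_inl, inv_left, mul_one]
      rw [← MulAut.mul_apply, ← map_mul, mul_inv_cancel, map_one, MulAut.one_apply, hact,
        mul_comm x₀.left, mul_assoc, mul_inv_cancel, mul_one]
    have h2 := L.mul_mem (L.mul_mem hx₀ hu) (L.inv_mem hx₀)
    rwa [h1, show mulK (z ^ k) (Multiplicative.ofAdd u) = Multiplicative.ofAdd ((↑(z ^ k) : K) * u)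
      from rfl] at h2
  -- `A` is stable under every power of the conjugated root
  have hζ' : IsPrimitiveRoot ((z : K) ^ k) q := by
    refine hζ.zpow_of_gcd_eq_one k ?_
    rw [Int.gcd_comm]
    exact Int.isCoprime_iff_gcd_eq_one.1
      ((Nat.prime_iff_prime_int.1 hq.out).coprime_iff_not_dvd.2 hqk)
  by_cases hA : A = ⊥
  · -- `L` embeds into the cyclic complement
    intro x hx y hy
    have hr : (x * y * (y * x)⁻¹).right = 1 := by
      rw [mul_right, inv_right, mul_right, mul_right, mul_comm y.right, mul_inv_cancel]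
    have hm : x * y * (y * x)⁻¹ ∈ L := mul_mem (mul_mem hx hy) (inv_mem (mul_mem hy hx))
    have he : x * y * (y * x)⁻¹ = inl (x * y * (y * x)⁻¹).left := by
      conv_lhs => rw [← inl_left_mul_inr_right (x * y * (y * x)⁻¹), hr, map_one, mul_one]
    rw [he] at hm
    have h0 : Multiplicative.toAdd (x * y * (y * x)⁻¹).left ∈ A := hm
    rw [hA, AddSubgroup.mem_bot] at h0
    rw [show (x * y * (y * x)⁻¹).left = 1 from h0, map_one] at he
    exact mul_inv_eq_one.1 he
  exfalso
  obtain ⟨u, hu, hu0⟩ := A.bot_or_exists_ne_zero.resolve_left hA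
  have hAtop : A = ⊤ := by
    let A' : AddSubgroup K := A.comap (AddMonoidHom.mulRight u)
    have hA' : A' = ⊤ := by
      suffices hs : ∀ i : ℕ, ((z : K) ^ k) ^ i * u ∈ A by
        refine window ha hK hζ' 0 A' fun i _ => ?_
        rw [zero_add, zpow_natCast]
        exact hs i
      intro i
      induction i with
      | zero => simpa using hu
      | succ i ih =>
        have := hAinv _ ih
        rw [Units.val_zpow_eq_zpow_val] at this
        rw [pow_succ', mul_assoc]
        exact this
    refine eq_top_iff.2 fun v _ => ?_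
    have : v * u⁻¹ ∈ A' := hA' ▸ AddSubgroup.mem_top _
    simpa [A', mul_assoc, inv_mul_cancel₀ hu0] using this
  refine hL (eq_top_iff.2 fun x _ => ?_)
  have hl : ∀ v, inl v ∈ L := fun v =>
    (show Multiplicative.toAdd v ∈ A from hAtop ▸ AddSubgroup.mem_top _)
  have hr : inr x₀.right ∈ L := by
    have h1 := L.mul_mem (L.inv_mem (hl x₀.left)) hx₀
    nth_rewrite 2 [← inl_left_mul_inr_right x₀] at h1
    rwa [inv_mul_cancel_left] at h1
  rw [← inl_left_mul_inr_right x]
  refine L.mul_mem (hl _) ?_
  obtain ⟨j, hj⟩ := exists_int x.right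
  -- `x₀.right` generates the complement
  have hg : Multiplicative.ofAdd (1 : ZMod (q ^ r)) ∈ zpowers x₀.right := by
    rw [hk]
    have hco : IsCoprime k ((q ^ r : ℕ) : ℤ) := by
      push_cast
      exact (((Nat.prime_iff_prime_int.1 hq.out).coprime_iff_not_dvd.2 hqk).symm).pow_right
    obtain ⟨s, t, hst⟩ := hco
    refine mem_zpowers_iff.2 ⟨s, ?_⟩
    rw [← zpow_mul, ← ofAdd_zsmul, zsmul_one]
    congr 1
    rw [mul_comm, show s * k = 1 - t * ((q ^ r : ℕ) : ℤ) by linarith, Int.cast_sub, Int.cast_one,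
      Int.cast_mul, Int.cast_natCast, ZMod.natCast_self, mul_zero, sub_zero]
  obtain ⟨i, hi⟩ := mem_zpowers_iff.1 hg
  rw [hj, ← hi, ← zpow_mul, map_zpow]
  exact L.zpow_mem hr _

end Model

end Cfsg.Agent.SchmidtUniv
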