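import Cfsg.Agent.SchmidtUniv.Basic

/-!
Central extensions of the base group: they are minimal non-`p`-nilpotent, and their order is
bounded by the universal one.
-/

set_option autoImplicit false

namespace Cfsg.Agent.SchmidtUniv

open Subgroup SemidirectProduct
open scoped commutatorElement IsMulCommutative

/-- A finite commutative group generated by `b` elements of exponent `p` has order at most `p ^ b`. -/
theorem card_closure_le {A : Type*} [CommGroup A] [Finite A] {p b : ℕ} (hp : 0 < p) (f : Fin b → A)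
    (hf : ∀ i, f i ^ p = 1) : Nat.card (closure (Set.range f)) ≤ p ^ b := by
  let φ : ((i : Fin b) → zpowers (f i)) →* A :=
    { toFun := fun g => ∏ i, (g i : A)
      map_one' := by simp
      map_mul' := fun g h => by simp [Finset.prod_mul_distrib] }
  have hle : closure (Set.range f) ≤ φ.range := by
    rw [closure_le]
    rintro _ ⟨i, rfl⟩
    refine ⟨Pi.mulSingle i ⟨f i, mem_zpowers _⟩, ?_⟩
    show ∏ j, (((Pi.mulSingle i (⟨f i, mem_zpowers _⟩ : zpowers (f i)) :
        (k : Fin b) → zpowers (f k)) j : zpowers (f j)) : A) = f i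
    rw [Finset.prod_eq_single i (fun j _ hj => by simp [hj]) (fun h => absurd (Finset.mem_univ i) h),
      Pi.mulSingle_eq_same]
  calc Nat.card (closure (Set.range f)) ≤ Nat.card φ.range :=
        Nat.card_le_card_of_injective _ (Subgroup.inclusion_injective hle)
    _ ≤ Nat.card ((i : Fin b) → zpowers (f i)) :=
        Nat.card_le_card_of_surjective _ φ.rangeRestrict_surjective
    _ = ∏ i, Nat.card (zpowers (f i)) := Nat.card_pi
    _ ≤ ∏ _i : Fin b, p := Finset.prod_le_prod' fun i _ => by
        rw [Nat.card_zpowers]; exact orderOf_le_of_pow_eq_one hp (hf i)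
    _ = p ^ b := by simp

theorem zmod_two_cases : ∀ t : ZMod 2, t = 0 ∨ t = 1 := by decide

variable {p q r a : ℕ} [hp : Fact p.Prime] [hq : Fact q.Prime]
variable {K : Type*} [Field K] [Finite K] [Algebra (ZMod p) K] {z : Kˣ} {hz : z ^ (q ^ r) = 1}
variable {E : Type*} [Group E] [Finite E] {π : E →* Base z (q ^ r) hz} {y : E}

theorem charP_K : CharP K p :=
  (RingHom.charP_iff (algebraMap (ZMod p) K) (algebraMap (ZMod p) K).injective p).1 inferInstance

theorem zne (hζ : IsPrimitiveRoot (z : K) q) : (z : K) ≠ 1 := hζ.ne_one hq.out.one_lt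

omit [Finite E] in
/-- The preimage of the field is a `p`-group. -/
theorem preimage_isPGroup (h : IsExt z (q ^ r) hz p π y) :
    IsPGroup p ↥((rightHom.comp π).ker) := by
  haveI : CharP K p := charP_K
  intro x
  have hx : (π x.1).right = 1 := x.2
  have h1 : π x.1 = inl (π x.1).left := by
    conv_lhs => rw [← inl_left_mul_inr_right (π x.1), hx, map_one, mul_one]
  have h2 : π (x.1 ^ p) = 1 := by
    rw [map_pow, h1, ← map_pow, show (π x.1).left ^ p = 1 from
      congrArg Multiplicative.ofAdd ((nsmul_eq_mul p (π x.1).left.toAdd).trans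
        (by rw [CharP.cast_eq_zero, zero_mul])), map_one]
  obtain ⟨k, hk⟩ := h.pker ⟨x.1 ^ p, h2⟩
  refine ⟨k + 1, Subtype.ext ?_⟩
  rw [pow_succ', pow_mul, SubmonoidClass.coe_pow, SubmonoidClass.coe_pow]
  exact congrArg Subtype.val hk

omit [Finite E] in
theorem commutator_le_ker_right :
    commutator E ≤ (rightHom.comp π).ker := by
  rw [_root_.commutator_def, commutator_le]
  intro u _ v _
  rw [MonoidHom.mem_ker, map_commutatorElement, commutatorElement_eq_one_iff_mul_comm]
  exact mul_comm _ _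

omit [Finite E] in
theorem coprime_ord (hpq : p ≠ q) (i : ℕ) : Nat.Coprime (q ^ r) (p ^ i) :=
  Nat.Coprime.pow _ _ ((Nat.coprime_primes hq.out hp.out).2 hpq.symm)

omit [Finite E] in
theorem eq_one_of_pow_pow (hpq : p ≠ q) {w : E} {i : ℕ} (h1 : w ^ (q ^ r) = 1)
    (h2 : w ^ (p ^ i) = 1) : w = 1 := by
  have := pow_gcd_eq_one.2 ⟨h1, h2⟩
  rwa [(coprime_ord hpq i).gcd_eq_one, pow_one] at this

omit [Finite E] in
/-- The kernel of the map to the complement is the derived group. -/
theorem ker_right_le_commutator (hpq : p ≠ q) (h : IsExt z (q ^ r) hz p π y) :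
    (rightHom.comp π).ker ≤ commutator E := by
  intro x hx
  obtain ⟨c, hc, w, hw, rfl⟩ := mem_sup_of_normal_left.1 (h.top ▸ mem_top x)
  have hwR : w ∈ (rightHom.comp π).ker := by
    simpa using mul_mem (inv_mem (commutator_le_ker_right hc)) hx
  obtain ⟨k, hk⟩ := preimage_isPGroup h ⟨w, hwR⟩
  have hk' : w ^ (p ^ k) = 1 := congrArg Subtype.val hk
  obtain ⟨j, rfl⟩ := mem_zpowers_iff.1 hw
  rw [eq_one_of_pow_pow hpq (by rw [← zpow_natCast, ← zpow_mul, mul_comm, zpow_mul, zpow_natCast,
    h.ord, one_zpow]) hk', mul_one]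
  exact hc

/-- Central extensions of the base group are minimal non-`p`-nilpotent. -/
theorem IsExt.schmidt (hpq : p ≠ q) (ha : a = orderOf (p : ZMod q)) (hK : Nat.card K = p ^ a)
    (hζ : IsPrimitiveRoot (z : K) q) (h : IsExt z (q ^ r) hz p π y) :
    ¬ Cfsg.HasNormalPComplement p E ∧ ∀ L : Subgroup E, L ≠ ⊤ → Cfsg.HasNormalPComplement p ↥L := by
  classical
  constructor
  · rintro ⟨P, N, hN, hc⟩
    have hidx : N.index = Nat.card (P : Subgroup E) := (hc.symm.index_eq_card)
    have hNp : ∀ w ∈ N, ∀ i : ℕ, w ^ (p ^ i) = 1 → w = 1 := by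
      intro w hw i hi
      have hdN : ¬ p ∣ Nat.card N := by
        rw [← hc.index_eq_card.trans rfl]
        exact P.not_dvd_index
      have h1 := pow_gcd_eq_one.2 ⟨hi, (congrArg Subtype.val (pow_card_eq_one' (x := (⟨w, hw⟩ : N))) :
        w ^ Nat.card N = 1)⟩
      rwa [show (p ^ i).gcd (Nat.card N) = 1 from
        (Nat.Coprime.pow_left i (hp.out.coprime_iff_not_dvd.2 hdN)), pow_one] at h1
    have hyN : y ∈ N := by
      obtain ⟨k, hk⟩ := P.isPGroup'.exists_card_eq
      rw [← QuotientGroup.eq_one_iff]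
      refine eq_one_of_pow_pow (r := r) hpq (i := k) (by rw [← QuotientGroup.mk_pow, h.ord]; rfl) ?_
      rw [← hk, ← hidx, Subgroup.index_eq_card]
      exact pow_card_eq_one'
    obtain ⟨x, hx⟩ := h.surj (inl (Multiplicative.ofAdd 1))
    have hxR : x ∈ (rightHom.comp π).ker := by
      rw [MonoidHom.mem_ker, MonoidHom.comp_apply, hx, rightHom_inl]
    have hcN : ⁅x, y⁆ ∈ N := by
      rw [commutatorElement_def]
      exact mul_mem (hN.conj_mem y hyN x) (inv_mem hyN)
    obtain ⟨i, hi⟩ := preimage_isPGroup h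
      ⟨⁅x, y⁆, commutator_le_ker_right (commutator_mem_commutator (mem_top x) (mem_top y))⟩
    have h1 := congrArg π (commutatorElement_eq_one_iff_mul_comm.1
      (hNp _ hcN i (congrArg Subtype.val hi)))
    rw [map_mul, map_mul, hx, h.map_y] at h1
    have h2 := base_conj z (q ^ r) hz 1 (Multiplicative.ofAdd (1 : K))
    rw [zpow_one, ← h1, mul_inv_cancel_right, inl_inj] at h2
    refine zne hζ ?_
    have h3 := congrArg Multiplicative.toAdd h2
    rw [mulK_apply] at h3
    simpa using h3.symm
  · intro L hL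
    refine hasNormalPComplement_of_isNilpotent ?_
    have hLimg : L.map π ≠ ⊤ := by
      intro htop
      refine hL (eq_top_iff.2 ?_)
      have hdec : ∀ e : E, ∃ l ∈ L, ∃ n ∈ π.ker, e = l * n := fun e => by
        obtain ⟨l, hl, hle⟩ := htop ▸ mem_top (π e)
        exact ⟨l, hl, l⁻¹ * e, by rw [MonoidHom.mem_ker, map_mul, map_inv, hle, inv_mul_cancel],
          (mul_inv_cancel_left _ _).symm⟩
      rw [← h.top, sup_le_iff]
      constructor
      · rw [_root_.commutator_def, commutator_le]
        intro u _ v _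
        obtain ⟨l, hl, n, hn, rfl⟩ := hdec u
        obtain ⟨l', hl', n', hn', rfl⟩ := hdec v
        have hc : ∀ m ∈ π.ker, ∀ e : E, e * m = m * e := fun m hm e =>
          mem_center_iff.1 (h.central hm) e
        have : ⁅l * n, l' * n'⁆ = ⁅l, l'⁆ := by
          simp only [commutatorElement_def, mul_inv_rev]
          calc l * n * (l' * n') * (n⁻¹ * l⁻¹) * (n'⁻¹ * l'⁻¹)
              = l * (n * (l' * n')) * (n⁻¹ * l⁻¹) * (n'⁻¹ * l'⁻¹) := by group
            _ = l * ((l' * n') * n) * (n⁻¹ * l⁻¹) * (n'⁻¹ * l'⁻¹) := by rw [← hc n hn]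
            _ = l * l' * (n' * l⁻¹) * n'⁻¹ * l'⁻¹ := by group
            _ = l * l' * (l⁻¹ * n') * n'⁻¹ * l'⁻¹ := by rw [← hc n' hn']
            _ = l * l' * l⁻¹ * l'⁻¹ := by group
        rw [this, commutatorElement_def]
        exact mul_mem (mul_mem (mul_mem hl hl') (inv_mem hl)) (inv_mem hl')
      · rw [zpowers_le]
        obtain ⟨l, hl, n, hn, hy⟩ := hdec y
        obtain ⟨j, hj⟩ := h.pker ⟨n, hn⟩
        have hj' : n ^ (p ^ j) = 1 := congrArg Subtype.val hj
        have hlp : y ^ (p ^ j) = l ^ (p ^ j) := by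
          rw [hy, (show Commute l n from mem_center_iff.1 (h.central hn) l).mul_pow, hj', mul_one]
        obtain ⟨s, hs⟩ := exists_pow_eq_self_of_coprime
          ((coprime_ord (r := r) hpq j).symm.coprime_dvd_right (orderOf_dvd_of_pow_eq_one h.ord))
        rw [← hs, hlp]
        exact L.pow_mem (L.pow_mem hl _) _
    haveI : IsMulCommutative ↥(L.map π) :=
      ⟨⟨fun u v => Subtype.ext (base_comm_of_proper z (q ^ r) hz ha hK rfl hζ _ hLimg _ u.2 _ v.2)⟩⟩
    refine Subgroup.isNilpotent_of_ker_le_center (π.subgroupMap L) ?_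
    intro l hl
    refine mem_center_iff.2 fun e => Subtype.ext ?_
    refine mem_center_iff.1 (h.central ?_) _
    exact congrArg Subtype.val hl

/-- The order of a central extension of the base group is bounded. -/
theorem IsExt.card_le (hpq : p ≠ q) (ha : a = orderOf (p : ZMod q)) (hK : Nat.card K = p ^ a)
    (hζ : IsPrimitiveRoot (z : K) q) (h : IsExt z (q ^ r) hz p π y) :
    Nat.card E ≤ p ^ (if a % 2 = 1 then a else 3 * a / 2) * q ^ r := by
  classical
  haveI : CharP K p := charP_K
  have hcen : ∀ m ∈ π.ker, ∀ e : E, e * m = m * e := fun m hm e =>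
    mem_center_iff.1 (h.central hm) e
  -- a section over the field, and the commutator pairing
  choose s hs using fun u : K => h.surj (inl (Multiplicative.ofAdd u))
  have hker : ∀ u v, ⁅s u, s v⁆ ∈ π.ker := fun u v => by
    rw [MonoidHom.mem_ker, map_commutatorElement, hs, hs, ← map_commutatorElement,
      commutatorElement_eq_one_iff_mul_comm.2 (mul_comm _ _), map_one]
  let B : K → K → Additive ↥(center E) :=
    fun u v => Additive.ofMul ⟨⁅s u, s v⁆, h.central (hker u v)⟩
  have hwd : ∀ {x x' : E} {u v : K}, π x = inl (Multiplicative.ofAdd u) →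
      π x' = inl (Multiplicative.ofAdd v) → ⁅x, x'⁆ = ⁅s u, s v⁆ := by
    intro x x' u v hx hx'
    have key : ∀ (e e' m : E), m ∈ π.ker → ⁅e * m, e'⁆ = ⁅e, e'⁆ ∧ ⁅e, e' * m⁆ = ⁅e, e'⁆ := by
      intro e e' m hm
      simp only [commutatorElement_def, mul_inv_rev]
      refine ⟨?_, ?_⟩
      · calc e * m * e' * (m⁻¹ * e⁻¹) * e'⁻¹ = e * (m * e') * (m⁻¹ * e⁻¹) * e'⁻¹ := by group
          _ = e * (e' * m) * (m⁻¹ * e⁻¹) * e'⁻¹ := by rw [hcen m hm]
          _ = e * e' * e⁻¹ * e'⁻¹ := by group
      · calc e * (e' * m) * e⁻¹ * (m⁻¹ * e'⁻¹) = e * e' * (m * e⁻¹) * (m⁻¹ * e'⁻¹) := by group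
          _ = e * e' * (e⁻¹ * m) * (m⁻¹ * e'⁻¹) := by rw [← hcen m hm]
          _ = e * e' * e⁻¹ * e'⁻¹ := by group
    have hd : ∀ {w : E} {t : K}, π w = inl (Multiplicative.ofAdd t) → (s t)⁻¹ * w ∈ π.ker :=
      fun hw => by rw [MonoidHom.mem_ker, map_mul, map_inv, hs, hw, inv_mul_cancel]
    rw [← mul_inv_cancel_left (s u) x, (key _ _ _ (hd hx)).1, ← mul_inv_cancel_left (s v) x',
      (key _ _ _ (hd hx')).2]
  have hBadd : ∀ u u' v, B (u + u') v = B u v + B u' v := by
    intro u u' v
    show Additive.ofMul _ = Additive.ofMul (_ * _)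
    congr 1
    refine Subtype.ext ?_
    show ⁅s (u + u'), s v⁆ = ⁅s u, s v⁆ * ⁅s u', s v⁆
    rw [← hwd (x := s u * s u') (x' := s v) (by rw [map_mul, hs, hs, ← map_mul]; rfl) (hs v)]
    simp only [commutatorElement_def, mul_inv_rev]
    have hc := hcen _ (hker u' v) (s u)
    rw [commutatorElement_def] at hc
    calc s u * s u' * s v * ((s u')⁻¹ * (s u)⁻¹) * (s v)⁻¹
        = s u * (s u' * s v * (s u')⁻¹ * (s v)⁻¹) * (s v * (s u)⁻¹ * (s v)⁻¹) := by group
      _ = (s u' * s v * (s u')⁻¹ * (s v)⁻¹) * s u * (s v * (s u)⁻¹ * (s v)⁻¹) := by rw [hc]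
      _ = (s u' * s v * (s u')⁻¹ * (s v)⁻¹) * (s u * s v * (s u)⁻¹ * (s v)⁻¹) := by group
      _ = _ := by
          have := hcen _ (hker u' v) (s u * s v * (s u)⁻¹ * (s v)⁻¹)
          rw [commutatorElement_def] at this
          exact this.symm
  have hBanti : ∀ u v, B v u = -B u v := fun u v => by
    show Additive.ofMul _ = Additive.ofMul (_⁻¹)
    congr 1
    exact Subtype.ext (commutatorElement_inv (s u) (s v)).symm
  have hBinv : ∀ (k : ℤ) u v, B ((z : K) ^ k * u) ((z : K) ^ k * v) = B u v := fun k u v => by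
    show Additive.ofMul _ = Additive.ofMul _
    congr 1
    refine Subtype.ext ?_
    show ⁅s _, s _⁆ = ⁅s u, s v⁆
    have hpi : ∀ w, π (y ^ k * s w * (y ^ k)⁻¹) = inl (Multiplicative.ofAdd ((z : K) ^ k * w)) := by
      intro w
      rw [map_mul, map_mul, map_inv, map_zpow, h.map_y, hs, base_conj]
      exact congrArg _ (congrArg Multiplicative.ofAdd
        (show ((z ^ k : Kˣ) : K) * w = _ by rw [Units.val_zpow_eq_zpow_val]))
    rw [← hwd (hpi u) (hpi v)]
    calc ⁅y ^ k * s u * (y ^ k)⁻¹, y ^ k * s v * (y ^ k)⁻¹⁆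
        = y ^ k * ⁅s u, s v⁆ * (y ^ k)⁻¹ := by simp only [commutatorElement_def]; group
      _ = ⁅s u, s v⁆ := by rw [hcen _ (hker u v), mul_inv_cancel_right]
  let lam : K →+ Additive ↥(center E) := AddMonoidHom.mk' (fun u => B u 1) fun u u' => hBadd u u' 1
  have hz0 : (z : K) ≠ 0 := z.ne_zero
  have hlamB : ∀ u v, B u v ∈ lam.range := by
    intro u v
    let Bu : K →+ Additive ↥(center E) := AddMonoidHom.mk' (fun v => B u v) fun v v' => by
      show B u (v + v') = B u v + B u v'
      rw [hBanti (v + v') u, hBadd, hBanti u v, hBanti u v', neg_add, neg_neg, neg_neg]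
    have : lam.range.comap Bu = ⊤ := by
      refine window ha hK hζ 0 _ fun i _ => ⟨(z : K) ^ (-(i : ℤ)) * u, ?_⟩
      show B _ 1 = B u _
      rw [zero_add, ← hBinv (-(i : ℤ)) u ((z : K) ^ (i : ℤ)), ← zpow_add₀ hz0, neg_add_cancel,
        zpow_zero]
    exact (this ▸ AddSubgroup.mem_top v : v ∈ lam.range.comap Bu)
  have hlneg : ∀ k : ℤ, lam ((z : K) ^ (-k)) = -lam ((z : K) ^ k) := by
    intro k
    show B _ 1 = -B _ 1
    rw [← hBanti, ← hBinv k ((z : K) ^ (-k)) 1, ← zpow_add₀ hz0, add_neg_cancel, zpow_zero, mul_one]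
  have hl1 : lam 1 = 0 := by
    show Additive.ofMul _ = Additive.ofMul 1
    congr 1
    exact Subtype.ext (commutatorElement_self (s 1))
  -- the range of the pairing is generated by few elements of order `p`
  have hcard : Nat.card lam.range ≤ p ^ ((if a % 2 = 1 then a else 3 * a / 2) - a) := by
    by_cases hodd : a % 2 = 1
    · rw [if_pos hodd, Nat.sub_self, pow_zero]
      suffices ∀ u, lam u = 0 by
        have hs' : Subsingleton lam.range := ⟨fun ⟨x, u, hu⟩ ⟨x', u', hu'⟩ =>
          Subtype.ext ((hu.symm.trans (this u)).trans ((this u').symm.trans hu'))⟩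
        exact Finite.card_le_one_iff_subsingleton.2 hs'
      by_cases hq2 : q = 2
      · subst hq2
        have ha1 : a = 1 := by
          rw [ha, orderOf_eq_one_iff]
          rcases zmod_two_cases (p : ZMod 2) with h0 | h0
          · exact absurd h0 (natCast_ne_zero hpq)
          · exact h0
        have htop : lam.ker = ⊤ := window ha hK hζ 0 _ fun i hi => by
          obtain rfl : i = 0 := by omega
          simpa using hl1
        exact fun u => (htop ▸ AddSubgroup.mem_top u : u ∈ lam.ker)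
      have hflip : ∀ (P : Polynomial (ZMod p)) (m : ℤ),
          lam (Polynomial.aeval (z : K)⁻¹ P * (z : K) ^ (-m)) =
            -lam (Polynomial.aeval (z : K) P * (z : K) ^ m) := by
        intro P m
        induction P using Polynomial.induction_on' with
        | add P P' h1 h2 => rw [map_add, map_add, add_mul, add_mul, map_add, map_add, h1, h2]; abel
        | monomial i c =>
          rw [Polynomial.aeval_monomial, Polynomial.aeval_monomial, ← ZMod.natCast_zmod_val c,
            map_natCast, mul_assoc, mul_assoc, ← nsmul_eq_mul, ← nsmul_eq_mul, map_nsmul, map_nsmul,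
            inv_pow, ← zpow_natCast, ← zpow_neg, ← zpow_add₀ hz0, ← zpow_add₀ hz0,
            ← neg_add, hlneg, smul_neg]
      set μ := minpoly (ZMod p) (z : K)
      have hne := aeval_inv_minpoly_ne_zero ha hK hζ (Nat.odd_iff.2 hodd) hq2
      have hker' : lam.ker.comap (AddMonoidHom.mulLeft (Polynomial.aeval (z : K)⁻¹ μ)) = ⊤ := by
        refine window ha hK hζ 0 _ fun i _ => ?_
        show lam (Polynomial.aeval (z : K)⁻¹ μ * (z : K) ^ (0 + (i : ℤ))) = 0
        rw [zero_add, ← neg_neg (i : ℤ), hflip, minpoly.aeval, zero_mul, map_zero, neg_zero]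
      intro u
      have : (Polynomial.aeval (z : K)⁻¹ μ)⁻¹ * u ∈
          lam.ker.comap (AddMonoidHom.mulLeft (Polynomial.aeval (z : K)⁻¹ μ)) := hker' ▸ trivial
      have h0 : lam (Polynomial.aeval (z : K)⁻¹ μ * ((Polynomial.aeval (z : K)⁻¹ μ)⁻¹ * u)) = 0 := this
      rwa [← mul_assoc, mul_inv_cancel₀ hne, one_mul] at h0
    · rw [if_neg hodd]
      have hb : 3 * a / 2 - a = a / 2 := by omega
      rw [hb]
      have hpz : ∀ u, p • lam u = 0 := fun u => by
        rw [← map_nsmul, nsmul_eq_mul, CharP.cast_eq_zero, zero_mul, map_zero]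
      let f : Fin (a / 2) → Multiplicative lam.range :=
        fun i => Multiplicative.ofAdd ⟨lam ((z : K) ^ ((i : ℤ) + 1)), ⟨_, rfl⟩⟩
      haveI : Finite (Additive ↥(center E)) := inferInstanceAs (Finite ↥(center E))
      have hclo : closure (Set.range f) = ⊤ := by
        let A : AddSubgroup K := (Subgroup.toAddSubgroup' (closure (Set.range f))).comap lam.rangeRestrict
        have hin : ∀ j : ℕ, 1 ≤ j → j ≤ a / 2 → (z : K) ^ (j : ℤ) ∈ A := fun j h1 h2 => by
          show Multiplicative.ofAdd (lam.rangeRestrict ((z : K) ^ (j : ℤ))) ∈ closure (Set.range f)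
          refine subset_closure ⟨⟨j - 1, by omega⟩, ?_⟩
          show Multiplicative.ofAdd _ = _
          congr 1
          refine Subtype.ext ?_
          show lam _ = lam _
          congr 2
          simp only [Nat.cast_sub h1]
          ring
        have hA : A = ⊤ := by
          refine window ha hK hζ (1 - ((a / 2 : ℕ) : ℤ)) A fun i hi => ?_
          rcases lt_trichotomy (1 - ((a / 2 : ℕ) : ℤ) + i) 0 with hlt | heq | hgt
          · obtain ⟨j, hj⟩ : ∃ j : ℕ, 1 - ((a / 2 : ℕ) : ℤ) + i = -(j : ℤ) :=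
              ⟨(-(1 - ((a / 2 : ℕ) : ℤ) + i)).toNat, by omega⟩
            rw [hj]
            show Multiplicative.ofAdd (lam.rangeRestrict ((z : K) ^ (-(j : ℤ)))) ∈ closure (Set.range f)
            rw [show lam.rangeRestrict ((z : K) ^ (-(j : ℤ))) = -lam.rangeRestrict ((z : K) ^ (j : ℤ))
              from Subtype.ext (hlneg j)]
            simp only [ofAdd_neg]
            exact inv_mem (hin j (by omega) (by omega))
          · rw [heq, zpow_zero]
            show Multiplicative.ofAdd (lam.rangeRestrict 1) ∈ closure (Set.range f)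
            rw [show lam.rangeRestrict 1 = 0 from Subtype.ext hl1]
            exact one_mem _
          · obtain ⟨j, hj⟩ : ∃ j : ℕ, 1 - ((a / 2 : ℕ) : ℤ) + i = (j : ℤ) :=
              ⟨(1 - ((a / 2 : ℕ) : ℤ) + i).toNat, by omega⟩
            rw [hj]
            exact hin j (by omega) (by omega)
        refine eq_top_iff.2 fun x _ => ?_
        obtain ⟨⟨_, u, rfl⟩, hx⟩ := Multiplicative.ofAdd.surjective x
        rw [← hx]
        exact (hA ▸ AddSubgroup.mem_top u : u ∈ A)
      refine le_of_eq_of_le ?_ (card_closure_le hp.out.pos f fun i =>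
        show Multiplicative.ofAdd (p • (f i).toAdd) = 1 from congrArg Multiplicative.ofAdd (Subtype.ext (hpz _)))
      rw [hclo, Subgroup.card_top, Nat.card_congr Multiplicative.toAdd]
  -- everything above the field is covered by the pairing
  let L : Subgroup E :=
    ((AddSubgroup.toSubgroup' lam.range).map (center E).subtype)
  have hLc : L ≤ center E := Subgroup.map_subtype_le _
  haveI : L.Normal := ⟨fun m hm g => by rwa [mem_center_iff.1 (hLc hm) g, mul_inv_cancel_right]⟩
  set R := (rightHom.comp π).ker with hR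
  have hRrep : ∀ x ∈ R, π x = inl (Multiplicative.ofAdd (π x).left.toAdd) := fun x hx => by
    conv_lhs => rw [← inl_left_mul_inr_right (π x), show (π x).right = 1 from hx, map_one, mul_one]
    rfl
  let mk := QuotientGroup.mk' L
  have hab : ∀ x ∈ R, ∀ x' ∈ R, mk x * mk x' = mk x' * mk x := fun x hx x' hx' => by
    rw [← commutatorElement_eq_one_iff_mul_comm, ← map_commutatorElement, QuotientGroup.mk'_apply,
      QuotientGroup.eq_one_iff, hwd (hRrep x hx) (hRrep x' hx')]
    exact mem_map.2 ⟨_, hlamB _ _, rfl⟩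
  -- the displacement map
  have hd : ∀ x ∈ R, ⁅y, x⁆ ∈ R := fun x _ =>
    commutator_le_ker_right (commutator_mem_commutator (mem_top y) (mem_top x))
  let θ : R →* E ⧸ L :=
    { toFun := fun x => mk ⁅y, (x : E)⁆
      map_one' := by simp
      map_mul' := fun x x' => by
        show mk ⁅y, (x : E) * x'⁆ = mk ⁅y, (x : E)⁆ * mk ⁅y, (x' : E)⁆
        have : ⁅y, (x : E) * x'⁆ = ⁅y, (x : E)⁆ * ((x : E) * ⁅y, (x' : E)⁆ * (x : E)⁻¹) := by
          simp only [commutatorElement_def]; group
        rw [this, map_mul, map_mul, map_mul, hab _ x.2 _ (hd _ x'.2), map_inv,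
          mul_inv_cancel_right] }
  have hTn : θ.range.Normal := by
    refine ⟨fun t ht g => ?_⟩
    obtain ⟨e, rfl⟩ := QuotientGroup.mk'_surjective L g
    have hsub : (⊤ : Subgroup E) ≤ (normalizer (θ.range : Set (E ⧸ L))).comap mk := by
      rw [← h.top, sup_le_iff, zpowers_le]
      refine ⟨fun w hw => ?_, ?_⟩
      · refine centralizer_le_normalizer _ (mem_centralizer_iff.2 ?_)
        rintro _ ⟨x, rfl⟩
        exact hab _ (hd _ x.2) _ (commutator_le_ker_right hw)
      · refine mem_normalizer_iff_map_conj_eq.2 (Subgroup.eq_of_le_of_card_ge ?_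
          (Nat.card_congr (equivMapOfInjective _ _ (MulAut.conj (mk y)).injective).toEquiv).le)
        rintro _ ⟨_, ⟨x, rfl⟩, rfl⟩
        refine ⟨⟨y * x * y⁻¹, (MonoidHom.normal_ker _).conj_mem _ x.2 y⟩, ?_⟩
        show mk ⁅y, y * (x : E) * y⁻¹⁆ = mk y * mk ⁅y, (x : E)⁆ * (mk y)⁻¹
        rw [← map_mul, ← map_inv, ← map_mul]
        congr 1
        simp only [commutatorElement_def]; group
    exact (mem_normalizer_iff.1 (hsub (mem_top e)) t).1 ht
  have hcT : ∀ w ∈ commutator E, mk w ∈ θ.range := by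
    let mk2 := (QuotientGroup.mk' θ.range).comp mk
    have hcyR : ∀ x ∈ R, mk2 y * mk2 x = mk2 x * mk2 y := fun x hx => by
      rw [← commutatorElement_eq_one_iff_mul_comm, ← map_commutatorElement]
      exact (QuotientGroup.eq_one_iff _).2 ⟨⟨x, hx⟩, rfl⟩
    have hgen : ∀ e : E, ∃ c ∈ R, ∃ k : ℤ, e = c * y ^ k := fun e => by
      obtain ⟨c, hc, w, hw, rfl⟩ := mem_sup_of_normal_left.1 (h.top ▸ mem_top e)
      obtain ⟨k, rfl⟩ := mem_zpowers_iff.1 hw
      exact ⟨c, commutator_le_ker_right hc, k, rfl⟩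
    have hall : ∀ u v : E, Commute (mk2 u) (mk2 v) := by
      intro u v
      obtain ⟨c, hc, k, rfl⟩ := hgen u
      obtain ⟨c', hc', k', rfl⟩ := hgen v
      have h1 : Commute (mk2 c) (mk2 c') := Commute.map (show Commute (mk c) (mk c') from hab c hc c' hc') (QuotientGroup.mk' θ.range)
      have h2 : Commute (mk2 y) (mk2 c') := hcyR c' hc'
      have h3 : Commute (mk2 y) (mk2 c) := hcyR c hc
      simp only [map_mul, map_zpow]
      exact (h1.mul_right (h3.zpow_left k').symm).mul_left
        ((h2.zpow_left k).mul_right ((Commute.refl _).zpow_zpow k k'))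
    intro w hw
    rw [← QuotientGroup.eq_one_iff]
    have : commutator E ≤ mk2.ker := by
      rw [_root_.commutator_def, commutator_le]
      intro u _ v _
      rw [MonoidHom.mem_ker, map_commutatorElement, commutatorElement_eq_one_iff_mul_comm]
      exact hall u v
    exact this hw
  have hTcard : Nat.card θ.range ≤ Nat.card K := by
    have hsR : ∀ u, s u ∈ R := fun u => by
      rw [hR, MonoidHom.mem_ker, MonoidHom.comp_apply, hs, rightHom_inl]
    refine Nat.card_le_card_of_surjective (fun u : K => θ.rangeRestrict ⟨s u, hsR u⟩) ?_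
    rintro ⟨_, x, rfl⟩
    refine ⟨(π (x : E)).left.toAdd, Subtype.ext ?_⟩
    show mk ⁅y, s _⁆ = mk ⁅y, (x : E)⁆
    congr 1
    have hm : (s (π (x : E)).left.toAdd)⁻¹ * (x : E) ∈ π.ker := by
      rw [MonoidHom.mem_ker, map_mul, map_inv, hs, hRrep x x.2, inv_mul_eq_one]; rfl
    conv_rhs => rw [← mul_inv_cancel_left (s (π (x : E)).left.toAdd) (x : E)]
    generalize (s (π (x : E)).left.toAdd)⁻¹ * (x : E) = m at hm
    generalize s (π (x : E)).left.toAdd = w
    simp only [commutatorElement_def, mul_inv_rev]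
    calc y * w * y⁻¹ * w⁻¹ = y * w * (y⁻¹ * m) * m⁻¹ * w⁻¹ := by group
      _ = y * w * (m * y⁻¹) * m⁻¹ * w⁻¹ := by rw [hcen m hm]
      _ = y * (w * m) * y⁻¹ * (m⁻¹ * w⁻¹) := by group
  have hRL : π.ker ≤ L := by
    let Rb := R.map mk
    have hRbT : Rb ≤ θ.range := by
      rintro _ ⟨x, hx, rfl⟩
      exact hcT x (ker_right_le_commutator hpq h hx)
    intro m hm
    by_contra hmL
    -- two different points of `Rb` over the same point of the field
    have hmR : m ∈ R := by rw [hR, MonoidHom.mem_ker, MonoidHom.comp_apply, hm, map_one]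
    have hle : Nat.card Rb ≤ Nat.card K :=
      (Nat.card_le_card_of_injective _ (Subgroup.inclusion_injective hRbT)).trans hTcard
    let pb : Rb → K := fun t => (π (Classical.choose t.2)).left.toAdd
    have hpb : ∀ x ∈ R, ∀ (t : Rb), (t : E ⧸ L) = mk x → pb t = (π x).left.toAdd := by
      intro x hx t ht
      obtain ⟨hc1, hc2⟩ := Classical.choose_spec t.2
      have : x⁻¹ * Classical.choose t.2 ∈ π.ker := by
        have h1 : x⁻¹ * Classical.choose t.2 ∈ L := QuotientGroup.eq.1 (ht.symm.trans hc2.symm)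
        obtain ⟨⟨w, hw⟩, ⟨u, hu⟩, he⟩ := h1
        rw [← he]
        have hu' : B u 1 = Additive.ofMul ⟨w, hw⟩ := hu
        have hw' : ⁅s u, s 1⁆ = w := congrArg (fun t => ((Additive.toMul t : center E) : E)) hu'
        show w ∈ π.ker
        rw [← hw']
        exact hker u 1
      rw [MonoidHom.mem_ker, map_mul, map_inv, inv_mul_eq_one] at this
      show (π (Classical.choose t.2)).left.toAdd = _
      rw [← this]
    have hsur : Function.Surjective pb := fun u => by
      have hu : s u ∈ R := by rw [hR, MonoidHom.mem_ker, MonoidHom.comp_apply, hs, rightHom_inl]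
      exact ⟨⟨mk (s u), mem_map_of_mem _ hu⟩, by rw [hpb _ hu _ rfl, hs]; rfl⟩
    have hbij : Function.Bijective pb :=
      hsur.bijective_of_nat_card_le hle
    have := hbij.1 (a₁ := (⟨mk m, mem_map_of_mem _ hmR⟩ : Rb)) (a₂ := 1) (by
      rw [hpb m hmR _ rfl, hpb 1 (one_mem _) 1 (by simp), hm, map_one])
    exact hmL ((QuotientGroup.eq_one_iff m).1 (congrArg Subtype.val this))
  have hLcard : Nat.card L ≤ p ^ ((if a % 2 = 1 then a else 3 * a / 2) - a) := by
    refine le_of_eq_of_le ?_ hcard
    rw [← Nat.card_congr (equivMapOfInjective _ _ (center E).subtype_injective).toEquiv]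
    rfl
  have hE : Nat.card E = Nat.card π.ker * (Nat.card K * q ^ r) := by
    rw [← card_base z (q ^ r) hz, ← Subgroup.card_top (G := Base z (q ^ r) hz),
      ← MonoidHom.range_eq_top.2 h.surj, ← Subgroup.index_ker, Subgroup.card_mul_index]
  rw [hE, hK, ← mul_assoc]
  refine Nat.mul_le_mul_right _ ?_
  calc Nat.card π.ker * p ^ a ≤ p ^ ((if a % 2 = 1 then a else 3 * a / 2) - a) * p ^ a :=
        Nat.mul_le_mul_right _ ((Nat.card_le_card_of_injective _
          (Subgroup.inclusion_injective hRL)).trans hLcard)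
    _ = _ := by rw [← pow_add, Nat.sub_add_cancel (by split <;> omega)]

end Cfsg.Agent.SchmidtUniv
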