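import Cfsg.Agent.SchmidtUniv.Ext
import Cfsg.Agent.S0132
import Mathlib.Algebra.Module.ZMod
import Cfsg.Agent.Lib.PGroup.Basic
import Cfsg.Agent.Lib.Coprime.SchurZassenhaus

/-!
Every minimal non-`p`-nilpotent group of order `p ^ t * q ^ r` is a central extension of the base group.
-/

set_option autoImplicit false

namespace Cfsg.Agent.SchmidtUniv

open Subgroup SemidirectProduct
open scoped commutatorElement IsMulCommutative

theorem sup_card_le {X : Type*} [Group X] [Finite X] (A B : Subgroup X) (h : B ≤ normalizer (A : Set X)) :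
    Nat.card ↥(A ⊔ B) ≤ Nat.card A * Nat.card B := by
  rw [← Nat.card_prod]
  refine Nat.card_le_card_of_surjective (fun ab : A × B => (⟨ab.1 * ab.2,
    mul_mem (mem_sup_left ab.1.2) (mem_sup_right ab.2.2)⟩ : ↥(A ⊔ B))) ?_
  intro ⟨x, hx⟩
  obtain ⟨u, hu, v, hv, huv⟩ := Coprime.exists_mul_of_mem_sup h hx
  exact ⟨(⟨u, hu⟩, ⟨v, hv⟩), Subtype.ext huv.symm⟩

/-- An irreducible automorphism of order `q` of an elementary abelian `p`-group is, up to a power,
multiplication by a given primitive root. -/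
theorem exists_equiv {p q a : ℕ} [Fact p.Prime] [hq : Fact q.Prime] {K : Type*} [Field K] [Finite K]
    [Algebra (ZMod p) K] {ζ : K} (ha : a = orderOf (p : ZMod q)) (hK : Nat.card K = p ^ a)
    (hζ : IsPrimitiveRoot ζ q) {V : Type*} [AddCommGroup V] [Module (ZMod p) V] [Finite V]
    [Nontrivial V] (T : Module.End (ZMod p) V) (hT : T ^ q = 1) (hT1 : T ≠ 1)
    (hirr : ∀ W : Submodule (ZMod p) V, (∀ w ∈ W, T w ∈ W) → W = ⊥ ∨ W = ⊤) :
    ∃ (k : ℕ) (e : V ≃ₗ[ZMod p] K), k.Coprime q ∧ ∀ v, e ((T ^ k) v) = ζ * e v := by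
  classical
  haveI : Module.Finite (ZMod p) V := Module.Finite.of_finite
  haveI : Module.Finite (ZMod p) (Module.End (ZMod p) V) := inferInstance
  have hint : IsIntegral (ZMod p) T := IsIntegral.of_finite _ _
  set μ := minpoly (ZMod p) T
  have hinj : ∀ P : Polynomial (ZMod p), Polynomial.aeval T P ≠ 0 →
      Function.Injective (Polynomial.aeval T P) := by
    intro P hP
    rw [← LinearMap.ker_eq_bot]
    refine (hirr _ fun w hw => ?_).resolve_right fun h => hP (LinearMap.ker_eq_top.1 h)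
    rw [LinearMap.mem_ker] at hw ⊢
    have hc : Polynomial.aeval T P * T = T * Polynomial.aeval T P := by
      have h1 := congrArg (Polynomial.aeval T) (mul_comm P Polynomial.X)
      rwa [map_mul, map_mul, Polynomial.aeval_X] at h1
    have := congrArg (fun f : Module.End (ZMod p) V => f w) hc
    simp only [Module.End.mul_apply] at this
    rw [this, hw, map_zero]
  have hμirr : Irreducible μ := by
    refine ⟨minpoly.not_isUnit _ _, fun f g hfg => ?_⟩
    have hμ0 : μ ≠ 0 := minpoly.ne_zero hint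
    have hor : Polynomial.aeval T f = 0 ∨ Polynomial.aeval T g = 0 := by
      by_contra hcon
      push Not at hcon
      obtain ⟨v, hv⟩ := exists_ne (0 : V)
      refine hv ((hinj f hcon.1) (a₁ := v) ((hinj g hcon.2) ?_))
      have h0 : Polynomial.aeval T (g * f) = 0 := by rw [mul_comm, ← hfg]; exact minpoly.aeval _ _
      rw [map_mul] at h0
      rw [map_zero, map_zero, ← Module.End.mul_apply, h0, LinearMap.zero_apply]
    rcases hor with h | h
    · right
      obtain ⟨c, hc⟩ := minpoly.dvd (ZMod p) T h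
      refine IsUnit.of_mul_eq_one c (mul_left_cancel₀ hμ0 ?_)
      rw [mul_one, mul_comm g, ← mul_assoc, ← hc, ← hfg]
    · left
      obtain ⟨c, hc⟩ := minpoly.dvd (ZMod p) T h
      refine IsUnit.of_mul_eq_one c (mul_left_cancel₀ hμ0 ?_)
      rw [mul_one, ← mul_assoc, mul_right_comm, ← hc, mul_comm g, ← hfg]
  have hμdvd : μ ∣ Polynomial.X ^ q - 1 := minpoly.dvd _ _ (by simp [hT])
  -- a root in the field
  obtain ⟨ρ, hρq, hρμ⟩ : ∃ ρ : K, ρ ^ q = 1 ∧ Polynomial.aeval ρ μ = 0 := by
    set μK := μ.map (algebraMap (ZMod p) K)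
    obtain ⟨g, hg, hgμ⟩ : ∃ g : Polynomial K, Irreducible g ∧ g ∣ μK := by
      refine WfDvdMonoid.exists_irreducible_factor ?_ ?_
      · intro hu
        have h1 := Polynomial.natDegree_eq_zero_of_isUnit hu
        rw [Polynomial.natDegree_map] at h1
        exact (minpoly.natDegree_pos hint).ne' h1
      · rw [Polynomial.map_ne_zero_iff (algebraMap (ZMod p) K).injective]
        exact minpoly.ne_zero hint
    have h1 : g ∣ Polynomial.X ^ q - 1 := hgμ.trans (by
      simpa [μK] using Polynomial.map_dvd (algebraMap (ZMod p) K) hμdvd)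
    rw [Polynomial.X_pow_sub_one_eq_prod hq.out.pos hζ] at h1
    obtain ⟨c, hc, hcg⟩ := hg.prime.exists_mem_finset_dvd h1
    have hass : Associated g (Polynomial.X - Polynomial.C c) :=
      hg.associated_of_dvd (Polynomial.irreducible_X_sub_C c) hcg
    refine ⟨c, (Polynomial.mem_nthRootsFinset hq.out.pos 1).1 hc, ?_⟩
    rw [Polynomial.aeval_def, ← Polynomial.eval_map]
    exact Polynomial.dvd_iff_isRoot.1 (hass.symm.dvd.trans hgμ)
  have hμρ : μ = minpoly (ZMod p) ρ :=
    minpoly.eq_of_irreducible_of_monic hμirr hρμ (minpoly.monic hint)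
  have hρ1 : ρ ≠ 1 := by
    rintro rfl
    rw [minpoly.one] at hμρ
    have := minpoly.aeval (ZMod p) T
    rw [show minpoly (ZMod p) T = μ from rfl, hμρ] at this
    simp [sub_eq_zero] at this
    exact hT1 this
  have hρ : IsPrimitiveRoot ρ q := IsPrimitiveRoot.iff_orderOf.2 (orderOf_eq_prime hρq hρ1)
  obtain ⟨k, hkq, hk⟩ := hρ.eq_pow_of_pow_eq_one hζ.pow_eq_one
  have hk0 : k ≠ 0 := fun h => hζ.ne_one hq.out.one_lt (by rw [← hk, h, pow_zero])
  -- the intertwining map
  obtain ⟨v₀, hv₀⟩ := exists_ne (0 : V)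
  let evV : Polynomial (ZMod p) →ₗ[ZMod p] V :=
    (LinearMap.applyₗ v₀).comp (Polynomial.aeval T).toLinearMap
  let evK : Polynomial (ZMod p) →ₗ[ZMod p] K := (Polynomial.aeval ρ).toLinearMap
  have hVs : Function.Surjective evV := by
    rw [← LinearMap.range_eq_top]
    refine (hirr _ ?_).resolve_left fun h => hv₀ ?_
    · rintro _ ⟨P, rfl⟩
      refine ⟨Polynomial.X * P, ?_⟩
      show Polynomial.aeval T (Polynomial.X * P) v₀ = T (Polynomial.aeval T P v₀)
      rw [map_mul, Polynomial.aeval_X]; rfl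
    · have h1 : evV 1 ∈ LinearMap.range evV := ⟨1, rfl⟩
      rw [h, Submodule.mem_bot] at h1
      simpa [evV] using h1
  have hKs : Function.Surjective evK := fun x =>
    let ⟨P, _, hP⟩ := exists_aeval ha hK hρ x
    ⟨P, hP⟩
  have hker : LinearMap.ker evV = LinearMap.ker evK := by
    ext P
    rw [LinearMap.mem_ker, LinearMap.mem_ker]
    show Polynomial.aeval T P v₀ = 0 ↔ Polynomial.aeval ρ P = 0
    constructor
    · intro h
      have h0 : Polynomial.aeval T P = 0 := by
        by_contra hne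
        exact hv₀ (hinj P hne (h.trans (map_zero _).symm))
      obtain ⟨c, rfl⟩ := minpoly.dvd (ZMod p) T h0
      rw [map_mul, hρμ, zero_mul]
    · intro h
      obtain ⟨c, rfl⟩ := hμρ ▸ minpoly.dvd (ZMod p) ρ h
      rw [map_mul, minpoly.aeval, zero_mul, LinearMap.zero_apply]
  let e : V ≃ₗ[ZMod p] K := ((evV.quotKerEquivOfSurjective hVs).symm.trans
    (Submodule.quotEquivOfEq _ _ hker)).trans (evK.quotKerEquivOfSurjective hKs)
  have he : ∀ P, e (evV P) = evK P := fun P => by
    have h1 : (evV.quotKerEquivOfSurjective hVs).symm (evV P) = Submodule.Quotient.mk P := by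
      rw [LinearEquiv.symm_apply_eq]
      exact (LinearMap.quotKerEquivOfSurjective_apply_mk _ hVs P).symm
    simp only [e, LinearEquiv.trans_apply, h1, Submodule.quotEquivOfEq_mk,
      LinearMap.quotKerEquivOfSurjective_apply_mk]
  refine ⟨k, e, (hq.out.coprime_iff_not_dvd.2 fun hd =>
    absurd (Nat.le_of_dvd (Nat.pos_of_ne_zero hk0) hd) (by omega)).symm, fun v => ?_⟩
  obtain ⟨P, rfl⟩ := hVs v
  rw [show (T ^ k) (evV P) = evV (Polynomial.X ^ k * P) by
    show _ = Polynomial.aeval T (Polynomial.X ^ k * P) v₀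
    rw [map_mul, map_pow, Polynomial.aeval_X]; rfl, he, he]
  show Polynomial.aeval ρ (Polynomial.X ^ k * P) = ζ * Polynomial.aeval ρ P
  rw [map_mul, map_pow, Polynomial.aeval_X, hk]

/-- Equivariance can be checked at a generator. -/
theorem compat_of_gen {C P M : Type*} [Group C] [Group P] [Group M] (ν : P →* M) (g : C)
    (hg : ∀ c, ∃ n : ℕ, c = g ^ n) (ψ : C →* MulAut P) (ψ' : C →* MulAut M)
    (h : ∀ x, ν (ψ g x) = ψ' g (ν x)) (c : C) :
    ν.comp (ψ c).toMonoidHom = (ψ' c).toMonoidHom.comp ν := by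
  obtain ⟨n, rfl⟩ := hg c
  induction n with
  | zero => ext x; simp
  | succ n ih =>
    ext x
    have hx := DFunLike.congr_fun ih (ψ g x)
    simp only [MonoidHom.comp_apply, MulEquiv.coe_toMonoidHom, pow_succ, map_mul, MulAut.mul_apply] at hx ⊢
    rw [hx, h]

variable {p q r a : ℕ} [hp : Fact p.Prime] [hq : Fact q.Prime]
variable {K : Type*} [Field K] [Finite K] [Algebra (ZMod p) K] {z : Kˣ} {hz : z ^ (q ^ r) = 1}

theorem exists_mark (hpq : p ≠ q) (ha : a = orderOf (p : ZMod q)) (hK : Nat.card K = p ^ a)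
    (hζ : IsPrimitiveRoot (z : K) q) (X : Type*) [Group X] [Finite X]
    (h1 : ¬ Cfsg.HasNormalPComplement p X) (h2 : ∀ L : Subgroup X, L ≠ ⊤ → Cfsg.HasNormalPComplement p ↥L)
    (t : ℕ) (hcard : Nat.card X = p ^ t * q ^ r) :
    ∃ (P : Subgroup X) (_ : P.Normal) (y : X) (ν : P →* Multiplicative K),
      IsPGroup p P ∧ Nat.card P = p ^ t ∧ y ^ (q ^ r) = 1 ∧ P ⊔ zpowers y = ⊤ ∧
      Function.Surjective ν ∧ (∀ x : P, ν (MulAut.conjNormal y x) = mulK z (ν x)) ∧
      (∀ x : P, ν x = 1 → (x : X) ∈ center X) ∧ ∀ x : P, (x : X) ∈ commutator X := by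
  classical
  obtain ⟨hnil, -, hPn'⟩ := Cfsg.Agent.S0132.result h1 h2
  obtain ⟨S⟩ : Nonempty (Sylow p X) := inferInstance
  set P := (S : Subgroup X) with hPdef
  haveI hPn : P.Normal := hPn' S
  have hPp : IsPGroup p P := S.isPGroup'
  obtain ⟨Q⟩ : Nonempty (Sylow q X) := inferInstance
  have hcop : Nat.Coprime (p ^ t) (q ^ r) :=
    Nat.Coprime.pow _ _ ((Nat.coprime_primes hp.out hq.out).2 hpq)
  have hPc : Nat.card P = p ^ t := by
    refine Nat.dvd_antisymm ?_ (S.pow_dvd_card_of_pow_dvd_card (hcard ▸ dvd_mul_right _ _))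
    obtain ⟨i, hi⟩ := hPp.exists_card_eq
    have hdiv : Nat.card P ∣ p ^ t * q ^ r := hcard ▸ card_subgroup_dvd_card P
    rw [hi] at hdiv ⊢
    exact (Nat.Coprime.pow _ _ ((Nat.coprime_primes hp.out hq.out).2 hpq)).dvd_of_dvd_mul_right hdiv
  have hQc : Nat.card Q = q ^ r := by
    refine Nat.dvd_antisymm ?_ (Q.pow_dvd_card_of_pow_dvd_card (hcard ▸ dvd_mul_left _ _))
    obtain ⟨i, hi⟩ := Q.isPGroup'.exists_card_eq
    have hdiv : Nat.card Q ∣ p ^ t * q ^ r := hcard ▸ card_subgroup_dvd_card (Q : Subgroup X)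
    rw [hi] at hdiv ⊢
    exact (Nat.Coprime.pow _ _ ((Nat.coprime_primes hq.out hp.out).2 hpq.symm)).dvd_of_dvd_mul_left hdiv
  have hdisj : P ⊓ (Q : Subgroup X) = ⊥ :=
    disjoint_iff.1 (disjoint_of_coprime_natCard (by rw [hPc, hQc]; exact hcop))
  -- a `q`-element acting nontrivially
  obtain ⟨y, hyQ, hyP⟩ : ∃ y ∈ (Q : Subgroup X), y ∉ centralizer (P : Set X) := by
    by_contra hcon
    push Not at hcon
    have hc : (Q : Subgroup X).IsComplement' P :=
      isComplement'_of_coprime (by rw [hQc, hPc, hcard, mul_comm]) (by rw [hQc, hPc]; exact hcop.symm)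
    have hQn : (Q : Subgroup X).Normal := by
      rw [← normalizer_eq_top_iff, eq_top_iff, ← hc.sup_eq_top, sup_le_iff]
      exact ⟨le_normalizer, fun x hx => centralizer_le_normalizer _
        (mem_centralizer_iff.2 fun v hv => (mem_centralizer_iff.1 (hcon v hv) x hx).symm)⟩
    exact h1 ⟨S, (Q : Subgroup X), hQn, hc⟩
  have hyord : orderOf y ∣ q ^ r := hQc ▸ orderOf_dvd_natCard (Q : Subgroup X) hyQ
  have hcomm : ∀ (W : Subgroup X) (w : X), W ≤ P → w ∈ zpowers y → W ⊔ zpowers w ≠ ⊤ →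
      ∀ x ∈ W, x * w = w * x := fun W w hW hw hne x hx => by
    obtain ⟨i, hi⟩ := IsPGroup.iff_orderOf.1 hPp ⟨x, hW hx⟩
    rw [Subgroup.orderOf_mk] at hi
    have hwq : orderOf w ∣ q ^ r := (orderOf_dvd_of_mem_zpowers hw).trans hyord
    exact congrArg Subtype.val (Cfsg.Agent.Transfer.nilpotent_commute_of_coprime (hnil _ hne)
      (x := ⟨x, mem_sup_left hx⟩) (y := ⟨w, mem_sup_right (mem_zpowers _)⟩)
      (by
        simp only [Subgroup.orderOf_mk]
        rw [hi]
        exact (Nat.Coprime.pow i r ((Nat.coprime_primes hp.out hq.out).2 hpq)).coprime_dvd_right hwq)).eq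
  have htop : P ⊔ zpowers y = ⊤ := by
    by_contra hne
    exact hyP (mem_centralizer_iff.2 fun x hx => hcomm P y le_rfl (mem_zpowers y) hne x hx)
  have hPnorm : ∀ B : Subgroup X, B ≤ normalizer (P : Set X) := fun B => by
    rw [normalizer_eq_top_iff.2 hPn]; exact le_top
  have hy : orderOf y = q ^ r := by
    refine le_antisymm (Nat.le_of_dvd (pow_pos hq.out.pos r) hyord) ?_
    have := sup_card_le P (zpowers y) (hPnorm _)
    rw [htop, Subgroup.card_top, hcard, hPc, Nat.card_zpowers] at this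
    exact Nat.le_of_mul_le_mul_left this (pow_pos hp.out.pos t)
  have hr0 : r ≠ 0 := by
    rintro rfl
    refine hyP ?_
    rw [pow_zero, orderOf_eq_one_iff] at hy
    rw [hy]; exact one_mem _
  have hyqP : ∀ x ∈ P, x * y ^ q = y ^ q * x := by
    refine hcomm P _ le_rfl (pow_mem (mem_zpowers y) q) fun htop' => ?_
    have := sup_card_le P (zpowers (y ^ q)) (hPnorm _)
    rw [htop', Subgroup.card_top, hcard, hPc, Nat.card_zpowers,
      orderOf_pow_of_dvd hq.out.ne_zero (hy ▸ dvd_pow_self q hr0), hy] at this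
    have h3 := Nat.le_of_mul_le_mul_left this (pow_pos hp.out.pos t)
    exact absurd h3 (not_le.2 (Nat.div_lt_self (pow_pos hq.out.pos r) hq.out.one_lt))
  set φ : MulAut P := MulAut.conjNormal y
  have hφc : ∀ (k : ℕ) (x : P), (((φ ^ k) x : P) : X) = y ^ k * (x : X) * (y ^ k)⁻¹ := fun k x => by
    rw [← map_pow]; exact MulAut.conjNormal_apply _ _
  have hφq : φ ^ q = 1 := MulEquiv.ext fun x => Subtype.ext (by
    rw [hφc, ← hyqP x x.2, mul_inv_cancel_right, MulAut.one_apply])
  have hφ1 : φ ≠ 1 := fun h => hyP (mem_centralizer_iff.2 fun x hx => by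
    have := hφc 1 ⟨x, hx⟩
    rw [pow_one, h, MulAut.one_apply, pow_one] at this
    exact eq_mul_inv_iff_mul_eq.1 this)
  have hW : ∀ W : Subgroup P, W ≠ ⊤ → (∀ x ∈ W, φ x ∈ W) → ∀ x ∈ W, φ x = x := by
    intro W hWt hinv x hx
    set W' := W.map P.subtype
    have hn : zpowers y ≤ normalizer (W' : Set X) := by
      rw [zpowers_le, mem_normalizer_iff_map_conj_eq]
      refine eq_of_le_of_card_ge ?_
        (Nat.card_congr (equivMapOfInjective _ _ (MulAut.conj y).injective).toEquiv).le
      rintro _ ⟨_, ⟨w, hw, rfl⟩, rfl⟩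
      exact ⟨φ w, hinv w hw, MulAut.conjNormal_apply _ _⟩
    have hne : W' ⊔ zpowers y ≠ ⊤ := by
      intro htop'
      refine hWt (Subgroup.eq_top_of_le_card _ ?_)
      have := sup_card_le W' (zpowers y) hn
      rw [htop', Subgroup.card_top, hcard, Nat.card_zpowers, hy,
        ← Nat.card_congr (equivMapOfInjective _ _ P.subtype_injective).toEquiv] at this
      rw [hPc]
      exact Nat.le_of_mul_le_mul_right this (pow_pos hq.out.pos r)
    refine Subtype.ext ?_
    have := hcomm W' y (map_subtype_le _) (mem_zpowers y) hne x (mem_map_of_mem _ hx)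
    have h2 := hφc 1 x
    rw [pow_one, pow_one] at h2
    rw [h2, ← this, mul_inv_cancel_right]
  haveI : Nontrivial P := by
    by_contra hh
    rw [not_nontrivial_iff_subsingleton] at hh
    exact hφ1 (MulEquiv.ext fun x => Subsingleton.elim _ _)
  have hdisp : ∀ x d : P, φ x = x * d → φ d = d → d = 1 := by
    intro x d hx hd
    have hpow : ∀ n : ℕ, (φ ^ n) x = x * d ^ n := by
      intro n
      induction n with
      | zero => simp
      | succ n ih => rw [pow_succ', MulAut.mul_apply, ih, map_mul, map_pow, hd, hx, mul_assoc,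
          ← pow_succ']
    have h1 := hpow q
    rw [hφq, MulAut.one_apply, left_eq_mul] at h1
    exact PGroup.eq_one_of_pow_coprime hPp ((Nat.coprime_primes hp.out hq.out).2 hpq) h1
  have hgen : closure (Set.range fun x => x⁻¹ * φ x) = ⊤ := by
    by_contra hne
    refine hφ1 (MulEquiv.ext fun x => ?_)
    have hd : φ (x⁻¹ * φ x) = x⁻¹ * φ x := by
      refine hW _ hne ?_ _ (subset_closure ⟨x, rfl⟩)
      intro w hw
      induction hw using closure_induction with
      | mem w hw =>
        obtain ⟨v, rfl⟩ := hw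
        exact subset_closure ⟨φ v, by simp [map_mul, map_inv]⟩
      | one => rw [map_one]; exact one_mem _
      | mul v w _ _ ihv ihw => rw [map_mul]; exact mul_mem ihv ihw
      | inv w _ ihw => rw [map_inv]; exact inv_mem ihw
    have := hdisp x _ (by rw [mul_inv_cancel_left]) hd
    rw [MulAut.one_apply]
    exact (inv_mul_eq_one.mp this).symm
  set Φ := frattini P
  have hΦt : Φ ≠ ⊤ := fun h => by
    obtain ⟨M, hM⟩ : ∃ M : Subgroup P, IsCoatom M :=
      ((eq_top_or_exists_le_coatom (⊥ : Subgroup P)).resolve_left bot_ne_top).imp fun _ h => h.1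
    exact hM.1 (top_le_iff.mp (h ▸ frattini_le_coatom hM))
  have hΦinv : ∀ x ∈ Φ, φ x ∈ Φ := fun x hx =>
    (characteristic_iff_le_comap.mp (inferInstance : Φ.Characteristic) φ) hx
  have hΦfix : ∀ f ∈ Φ, φ f = f := hW _ hΦt hΦinv
  have hΦc : Φ ≤ center P := by
    intro f hf
    refine mem_center_iff.mpr fun x => ?_
    have hle : closure (Set.range fun v => v⁻¹ * φ v) ≤ centralizer ({f} : Set P) := by
      rw [closure_le]
      rintro _ ⟨v, rfl⟩
      refine mem_centralizer_singleton_iff.mpr ?_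
      have h1 := hΦfix _ ((inferInstance : Φ.Normal).conj_mem f hf v)
      rw [map_mul, map_mul, map_inv, hΦfix f hf] at h1
      calc v⁻¹ * φ v * f = v⁻¹ * (φ v * f * (φ v)⁻¹) * φ v := by group
        _ = f * (v⁻¹ * φ v) := by rw [h1]; group
    exact mem_centralizer_singleton_iff.mp (hle (hgen ▸ mem_top x))
  have hcΦ := PGroup.commutator_le_frattini hPp
  -- the quotient as a vector space
  letI : CommGroup (P ⧸ Φ) :=
    { (inferInstance : Group (P ⧸ Φ)) with
      mul_comm := fun u v => by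
        obtain ⟨u, rfl⟩ := QuotientGroup.mk'_surjective Φ u
        obtain ⟨v, rfl⟩ := QuotientGroup.mk'_surjective Φ v
        rw [← commutatorElement_eq_one_iff_mul_comm, ← map_commutatorElement, QuotientGroup.mk'_apply,
          QuotientGroup.eq_one_iff]
        exact hcΦ (commutator_mem_commutator (mem_top u) (mem_top v)) }
  haveI : Module (ZMod p) (Additive (P ⧸ Φ)) := AddCommGroup.zmodModule (fun v => by
    obtain ⟨u, hu⟩ := QuotientGroup.mk'_surjective Φ v.toMul
    show Additive.ofMul (v.toMul ^ p) = Additive.ofMul 1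
    rw [← hu, ← map_pow, QuotientGroup.mk'_apply, (QuotientGroup.eq_one_iff _).2
      (PGroup.pow_mem_frattini hPp u)])
  let Tm : Additive (P ⧸ Φ) →+ Additive (P ⧸ Φ) :=
    MonoidHom.toAdditive (QuotientGroup.map Φ Φ φ.toMonoidHom fun x hx => hΦinv x hx)
  let T : (Additive (P ⧸ Φ)) →ₗ[ZMod p] (Additive (P ⧸ Φ)) := Tm.toZModLinearMap p
  have hTmk : ∀ x : P, T (Additive.ofMul (x : P ⧸ Φ)) = Additive.ofMul ((φ x : P) : P ⧸ Φ) :=
    fun x => rfl
  have hTpow : ∀ (k : ℕ) (x : P),
      (T ^ k) (Additive.ofMul (x : P ⧸ Φ)) = Additive.ofMul (((φ ^ k) x : P) : P ⧸ Φ) := by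
    intro k
    induction k with
    | zero => intro x; rfl
    | succ k ih => intro x; rw [pow_succ', Module.End.mul_apply, ih, hTmk, pow_succ', MulAut.mul_apply]
  have hmks : ∀ v : Additive (P ⧸ Φ), ∃ x : P, Additive.ofMul (x : P ⧸ Φ) = v := fun v => by
    obtain ⟨x, hx⟩ := QuotientGroup.mk'_surjective Φ v.toMul
    exact ⟨x, by rw [show (x : P ⧸ Φ) = v.toMul from hx]; rfl⟩
  haveI : Finite (Additive (P ⧸ Φ)) := inferInstanceAs (Finite (P ⧸ Φ))
  haveI : Nontrivial (Additive (P ⧸ Φ)) := by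
    by_contra hh
    rw [not_nontrivial_iff_subsingleton] at hh
    exact hΦt (eq_top_iff.2 fun x _ => (QuotientGroup.eq_one_iff x).1
      (congrArg Additive.toMul (Subsingleton.elim (Additive.ofMul (x : P ⧸ Φ)) 0)))
  have hfixΦ : ∀ x, φ x = x → x ∈ Φ := by
    intro x hx
    let N : P →* Abelianization P :=
      { toFun := fun v => ∏ i ∈ Finset.range q, Abelianization.of ((φ ^ i) v)
        map_one' := by simp
        map_mul' := fun v w => by simp [Finset.prod_mul_distrib] }
    have hN : N = 1 := by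
      refine MonoidHom.eq_of_eqOn_dense hgen ?_
      rintro _ ⟨v, rfl⟩
      show ∏ i ∈ Finset.range q, Abelianization.of ((φ ^ i) (v⁻¹ * φ v)) = 1
      have h2 : ∀ i, Abelianization.of ((φ ^ i) (v⁻¹ * φ v)) =
          Abelianization.of ((φ ^ (i + 1)) v) / Abelianization.of ((φ ^ i) v) := fun i => by
        rw [map_mul, map_inv, pow_succ, MulAut.mul_apply, map_mul, map_inv,
          div_eq_mul_inv, mul_comm]
      rw [Finset.prod_congr rfl fun i _ => h2 i,
        Finset.prod_range_div (fun i => Abelianization.of ((φ ^ i) v)), hφq, pow_zero, div_self']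
    have h3 : N x = 1 := by rw [hN]; rfl
    have h4 : Abelianization.of x ^ q = 1 := by
      rw [← h3]
      show _ = ∏ i ∈ Finset.range q, Abelianization.of ((φ ^ i) x)
      have h5 : ∀ i, (φ ^ i) x = x := by
        intro i
        induction i with
        | zero => rfl
        | succ i ih => rw [pow_succ', MulAut.mul_apply, ih, hx]
      simp only [h5, Finset.prod_const, Finset.card_range]
    refine hcΦ ?_
    rw [← Abelianization.ker_of]
    haveI : Finite (Abelianization P) := Finite.of_surjective Abelianization.of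
      (QuotientGroup.mk'_surjective _)
    exact PGroup.eq_one_of_pow_coprime (hPp.of_surjective Abelianization.of
      (QuotientGroup.mk'_surjective _)) ((Nat.coprime_primes hp.out hq.out).2 hpq) h4
  obtain ⟨k, e, hk, he⟩ := exists_equiv (q := q) ha hK hζ T
    (LinearMap.ext fun v => by
      obtain ⟨x, rfl⟩ := hmks v
      rw [hTpow, hφq]; rfl)
    (fun hT1 => hΦt (eq_top_iff.2 (hgen ▸ (closure_le Φ).2 (by
      rintro _ ⟨x, rfl⟩
      refine (QuotientGroup.eq_one_iff _).1 ?_
      have := LinearMap.congr_fun hT1 (Additive.ofMul (x : P ⧸ Φ))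
      rw [hTmk, Module.End.one_apply] at this
      rw [QuotientGroup.mk_mul, QuotientGroup.mk_inv, Additive.ofMul.injective this, inv_mul_cancel]))))
    (fun W hWinv => by
      let W0 : Subgroup P :=
        (AddSubgroup.toSubgroup' W.toAddSubgroup).comap (QuotientGroup.mk' Φ)
      by_cases hW0 : W0 = ⊤
      · right
        refine eq_top_iff.2 fun v _ => ?_
        obtain ⟨x, rfl⟩ := hmks v
        exact (hW0 ▸ mem_top x : x ∈ W0)
      · left
        refine eq_bot_iff.2 fun v hv => ?_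
        obtain ⟨x, rfl⟩ := hmks v
        have hx : φ x = x := hW W0 hW0 (fun u hu => hWinv _ hu) x hv
        rw [Submodule.mem_bot, (QuotientGroup.eq_one_iff x).2 (hfixΦ x hx)]; rfl)
  -- the quotient map
  let ν : P →* Multiplicative K :=
    (AddMonoidHom.toMultiplicativeRight e.toAddMonoidHom).comp (QuotientGroup.mk' Φ)
  have hνdef : ∀ x : P, (ν x).toAdd = e (Additive.ofMul (x : P ⧸ Φ)) := fun x => rfl
  obtain ⟨s, hs⟩ := exists_pow_eq_self_of_coprime (x := y) (n := k) (hy ▸ hk.pow_right r)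
  have hy'gen : y ∈ zpowers (y ^ k) := ⟨s, by simpa using hs⟩
  refine ⟨P, hPn, y ^ k, ν, hPp, hPc, ?_, ?_, ?_, ?_, ?_, ?_⟩
  · rw [← pow_mul, mul_comm, pow_mul, ← hy, pow_orderOf_eq_one, one_pow]
  · rw [eq_top_iff, ← htop]
    exact sup_le le_sup_left (zpowers_le.2 (mem_sup_right hy'gen))
  · intro u
    obtain ⟨x, hx⟩ := hmks (e.symm u.toAdd)
    exact ⟨x, Multiplicative.toAdd.injective (by rw [hνdef, hx, LinearEquiv.apply_symm_apply])⟩
  · intro x
    refine Multiplicative.toAdd.injective ?_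
    rw [mulK_apply, hνdef, hνdef, ← he, hTpow, map_pow]
  · intro x hx
    have h4 : e (Additive.ofMul (x : P ⧸ Φ)) = e 0 := (congrArg Multiplicative.toAdd hx).trans (map_zero e).symm
    have hxΦ : x ∈ Φ := (QuotientGroup.eq_one_iff _).1 (congrArg Additive.toMul (e.injective h4))
    rw [mem_center_iff]
    intro g
    have hg : g ∈ P ⊔ zpowers y := htop ▸ mem_top g
    suffices g ∈ centralizer ({(x : X)} : Set X) from mem_centralizer_singleton_iff.1 this
    refine (sup_le (a := P) (b := zpowers y) (c := centralizer ({(x : X)} : Set X)) ?_ ?_) hg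
    · intro v hv
      exact mem_centralizer_singleton_iff.2
        (congrArg Subtype.val (mem_center_iff.1 (hΦc hxΦ) ⟨v, hv⟩))
    · rw [zpowers_le, mem_centralizer_singleton_iff]
      have := congrArg Subtype.val (hΦfix _ hxΦ)
      have h2 := hφc 1 x
      rw [pow_one, pow_one, this] at h2
      exact (eq_mul_inv_iff_mul_eq.1 h2).symm
  · intro x
    have hle : closure (Set.range fun v => v⁻¹ * φ v) ≤ (commutator X).comap P.subtype := by
      rw [closure_le]
      rintro _ ⟨v, rfl⟩
      show ((v⁻¹ * φ v : P) : X) ∈ commutator X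
      have h2 := hφc 1 v
      rw [pow_one, pow_one] at h2
      rw [Subgroup.coe_mul, Subgroup.coe_inv, h2,
        show (v : X)⁻¹ * (y * v * y⁻¹) = ⁅(v : X)⁻¹, y⁆ by simp [commutatorElement_def, mul_assoc]]
      exact commutator_mem_commutator (mem_top _) (mem_top _)
    exact hle (hgen ▸ mem_top x)

theorem exists_isExt (hpq : p ≠ q) (ha : a = orderOf (p : ZMod q)) (hK : Nat.card K = p ^ a)
    (hζ : IsPrimitiveRoot (z : K) q) (X : Type*) [Group X] [Finite X]
    (h1 : ¬ Cfsg.HasNormalPComplement p X) (h2 : ∀ L : Subgroup X, L ≠ ⊤ → Cfsg.HasNormalPComplement p ↥L)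
    (t : ℕ) (hcard : Nat.card X = p ^ t * q ^ r) :
    ∃ (π : X →* Base z (q ^ r) hz) (y : X), IsExt z (q ^ r) hz p π y := by
  classical
  obtain ⟨P, hPn, y, ν, hPp, hPc, hy, htop, hνs, hνy, hνker, hPcomm⟩ :=
    exists_mark (z := z) hpq ha hK hζ X h1 h2 t hcard
  haveI : NeZero (q ^ r) := ⟨(pow_pos hq.out.pos r).ne'⟩
  let ψ : Multiplicative (ZMod (q ^ r)) →* MulAut P := MulAut.conjNormal.comp (zp y hy)
  let F : P ⋊[ψ] Multiplicative (ZMod (q ^ r)) →* X :=
    SemidirectProduct.lift P.subtype (zp y hy) (fun c => MonoidHom.ext fun x => by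
      simp only [MonoidHom.comp_apply, ψ]
      exact (MulAut.conjNormal_apply _ _).trans (MulAut.conj_apply _ _).symm)
  have hinl : ∀ x : P, F (inl x) = x := fun x => SemidirectProduct.lift_inl _ _ _ _
  have hinr : F (inr (Multiplicative.ofAdd 1)) = y :=
    (SemidirectProduct.lift_inr _ _ _ _).trans (zp_one y hy)
  have hFs : Function.Surjective F := by
    rw [← MonoidHom.range_eq_top, eq_top_iff, ← htop, sup_le_iff, zpowers_le]
    exact ⟨fun x hx => ⟨inl ⟨x, hx⟩, hinl _⟩, ⟨_, hinr⟩⟩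
  haveI : Finite (P ⋊[ψ] Multiplicative (ZMod (q ^ r))) :=
    Finite.of_equiv _ SemidirectProduct.equivProd.symm
  have hFb : Function.Bijective F := hFs.bijective_of_nat_card_le (by
    rw [SemidirectProduct.card, hPc, Nat.card_congr Multiplicative.toAdd, Nat.card_zmod, hcard])
  have hcompat : ∀ c, ν.comp (ψ c).toMonoidHom =
      (act z (q ^ r) hz ((MonoidHom.id _) c)).toMonoidHom.comp ν := by
    intro c
    refine compat_of_gen ν (Multiplicative.ofAdd (1 : ZMod (q ^ r))) (fun c => ⟨c.toAdd.val, by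
      rw [← ofAdd_nsmul, nsmul_one, ZMod.natCast_zmod_val, ofAdd_toAdd]⟩) ψ (act z (q ^ r) hz) ?_ c
    intro x
    rw [show ψ (Multiplicative.ofAdd (1 : ZMod (q ^ r))) = MulAut.conjNormal y from
        congrArg MulAut.conjNormal (zp_one y hy),
      show act z (q ^ r) hz (Multiplicative.ofAdd (1 : ZMod (q ^ r))) = mulK z from
        congrArg mulK (zp_one z hz)]
    exact hνy x
  let π : X →* Base z (q ^ r) hz :=
    (SemidirectProduct.map ν (MonoidHom.id _) hcompat).comp (MulEquiv.ofBijective F hFb).symm.toMonoidHom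
  have hπF : ∀ w, π (F w) = SemidirectProduct.map ν (MonoidHom.id _) hcompat w := fun w =>
    congrArg (SemidirectProduct.map ν (MonoidHom.id _) hcompat)
      ((MulEquiv.ofBijective F hFb).symm_apply_apply w)
  have hkey : ∀ x, x ∈ π.ker → ∃ v : P, x = v ∧ ν v = 1 := by
    intro x hx
    obtain ⟨w, rfl⟩ := hFs x
    rw [MonoidHom.mem_ker, hπF] at hx
    have hr1 : w.right = 1 := congrArg SemidirectProduct.right hx
    refine ⟨w.left, ?_, congrArg SemidirectProduct.left hx⟩
    conv_lhs => rw [← inl_left_mul_inr_right w, hr1, map_one, mul_one, hinl]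
  refine ⟨π, y, ⟨?_, ?_, ?_, ?_, hy, ?_⟩⟩
  · intro b
    obtain ⟨v, hv⟩ := hνs b.left
    exact ⟨F ⟨v, b.right⟩, (hπF _).trans (SemidirectProduct.ext hv rfl)⟩
  · intro x hx
    obtain ⟨v, rfl, hv⟩ := hkey x hx
    exact hνker v hv
  · intro ⟨x, hx⟩
    obtain ⟨v, rfl, -⟩ := hkey x hx
    obtain ⟨i, hi⟩ := hPp v
    exact ⟨i, Subtype.ext (by
      rw [SubmonoidClass.coe_pow, OneMemClass.coe_one]; exact congrArg Subtype.val hi)⟩
  · rw [← hinr, hπF, SemidirectProduct.map_inr]; rfl
  · rw [eq_top_iff, ← htop]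
    exact sup_le_sup_right (fun x hx => hPcomm ⟨x, hx⟩) _

end Cfsg.Agent.SchmidtUniv
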