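import Cfsg.Agent.SchmidtUniv.Marking
import Mathlib.Algebra.Group.MinimalAxioms

/-!
The universal central extension: a Heisenberg group over the field, extended by the cyclic group.
-/

set_option autoImplicit false

namespace Cfsg.Agent.SchmidtUniv

open Subgroup SemidirectProduct
open scoped commutatorElement

variable {K Z : Type} [Field K] [AddCommGroup Z]

/-- The Heisenberg group of a biadditive form. -/
@[ext] structure Heis (β : K →+ K →+ Z) where
  /-- The field coordinate. -/
  u : K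
  /-- The central coordinate. -/
  w : Z

variable {β : K →+ K →+ Z}

instance : Mul (Heis β) := ⟨fun x y => ⟨x.u + y.u, x.w + y.w + β x.u y.u⟩⟩
instance : One (Heis β) := ⟨⟨0, 0⟩⟩
instance : Inv (Heis β) := ⟨fun x => ⟨-x.u, -x.w + β x.u x.u⟩⟩

theorem heis_mul (x y : Heis β) : x * y = ⟨x.u + y.u, x.w + y.w + β x.u y.u⟩ := rfl
theorem heis_one : (1 : Heis β) = ⟨0, 0⟩ := rfl
theorem heis_inv (x : Heis β) : x⁻¹ = ⟨-x.u, -x.w + β x.u x.u⟩ := rfl

instance : Group (Heis β) :=
  Group.ofLeftAxioms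
    (fun x y v => by
      ext
      · simp [heis_mul, add_assoc]
      · simp only [heis_mul, map_add, AddMonoidHom.add_apply]; abel)
    (fun x => by ext <;> simp [heis_mul, heis_one])
    (fun x => by
      ext
      · simp [heis_mul, heis_inv, heis_one]
      · simp only [heis_mul, heis_inv, heis_one, map_neg, AddMonoidHom.neg_apply]; abel)

def heisEquiv : Heis β ≃ K × Z :=
  ⟨fun x => (x.u, x.w), fun x => ⟨x.1, x.2⟩, fun _ => rfl, fun _ => rfl⟩

instance [Finite K] [Finite Z] : Finite (Heis β) := Finite.of_equiv _ heisEquiv.symm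

theorem heis_commutator (x y : Heis β) : ⁅x, y⁆ = ⟨0, β x.u y.u - β y.u x.u⟩ := by
  rw [commutatorElement_def]
  ext
  · simp [heis_mul, heis_inv]
  · simp only [heis_mul, heis_inv, map_add, map_neg, AddMonoidHom.add_apply, AddMonoidHom.neg_apply]
    abel

/-- The projection to the field. -/
def toK : Heis β →* Multiplicative K where
  toFun x := Multiplicative.ofAdd x.u
  map_one' := rfl
  map_mul' _ _ := rfl

/-- The automorphism given by a root preserving the form. -/
def scale (c : Kˣ) (h : ∀ u v : K, β (c * u) (c * v) = β u v) : MulAut (Heis β) where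
  toFun x := ⟨c * x.u, x.w⟩
  invFun x := ⟨↑c⁻¹ * x.u, x.w⟩
  left_inv x := by ext <;> simp
  right_inv x := by ext <;> simp
  map_mul' x y := by ext <;> simp [heis_mul, mul_add, h]

theorem scale_pow_apply (c : Kˣ) (h : ∀ u v : K, β (c * u) (c * v) = β u v) (n : ℕ) (x : Heis β) :
    (scale c h ^ n) x = ⟨(c : K) ^ n * x.u, x.w⟩ := by
  induction n generalizing x with
  | zero => ext <;> simp
  | succ n ih =>
    rw [pow_succ, MulAut.mul_apply, ih]
    ext
    · show (c : K) ^ n * ((c : K) * x.u) = (c : K) ^ (n + 1) * x.u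
      ring
    · rfl

variable {p q r : ℕ} [hp : Fact p.Prime] [hq : Fact q.Prime]
variable [Finite K] [Algebra (ZMod p) K] {z : Kˣ} {hz : z ^ (q ^ r) = 1}

theorem exists_model [Finite Z] (hZ : ∀ w : Z, p • w = 0) (hζ : IsPrimitiveRoot (z : K) q)
    (β : K →+ K →+ Z) (hinv : ∀ u v : K, β (z * u) (z * v) = β u v)
    (hspan : ∀ w : Z, w ∈ AddSubgroup.closure {c | ∃ u v, c = β u v - β v u}) :
    ∃ (E : Type) (_ : Group E) (_ : Finite E) (π : E →* Base z (q ^ r) hz) (y : E),
      IsExt z (q ^ r) hz p π y ∧ Nat.card E = Nat.card K * Nat.card Z * q ^ r := by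
  haveI : NeZero (q ^ r) := ⟨(pow_pos hq.out.pos r).ne'⟩
  haveI : CharP K p := charP_K (p := p)
  have hs : scale z hinv ^ (q ^ r) = 1 := MulEquiv.ext fun x => by
    rw [scale_pow_apply, ← Units.val_pow_eq_pow_val, hz]
    ext <;> simp
  let ψ : Multiplicative (ZMod (q ^ r)) →* MulAut (Heis β) := zp (scale z hinv) hs
  have hψ1 : ψ (Multiplicative.ofAdd (1 : ZMod (q ^ r))) = scale z hinv := zp_one _ hs
  have hgen : ∀ c : Multiplicative (ZMod (q ^ r)),
      ∃ n : ℕ, c = Multiplicative.ofAdd (1 : ZMod (q ^ r)) ^ n := fun c => ⟨c.toAdd.val, by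
    rw [← ofAdd_nsmul, nsmul_one, ZMod.natCast_zmod_val, ofAdd_toAdd]⟩
  have hcompat : ∀ c, (toK (β := β)).comp (ψ c).toMonoidHom =
      (act z (q ^ r) hz ((MonoidHom.id _) c)).toMonoidHom.comp toK := fun c =>
    compat_of_gen toK _ hgen ψ (act z (q ^ r) hz) (fun x => by
      rw [hψ1, show act z (q ^ r) hz (Multiplicative.ofAdd (1 : ZMod (q ^ r))) = mulK z from
        congrArg mulK (zp_one z hz)]
      rfl) c
  have hfix : ∀ (c : Multiplicative (ZMod (q ^ r))) (w : Z), ψ c ⟨0, w⟩ = ⟨0, w⟩ := by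
    intro c w
    obtain ⟨n, rfl⟩ := hgen c
    rw [map_pow, hψ1, scale_pow_apply, mul_zero]
  haveI : Finite (Heis β ⋊[ψ] Multiplicative (ZMod (q ^ r))) :=
    Finite.of_equiv _ SemidirectProduct.equivProd.symm
  let y : Heis β ⋊[ψ] Multiplicative (ZMod (q ^ r)) := inr (Multiplicative.ofAdd 1)
  let π := SemidirectProduct.map (toK (β := β)) (MonoidHom.id _) hcompat
  have hker : ∀ x, x ∈ π.ker → ∃ w : Z, x = inl ⟨0, w⟩ := by
    intro x hx
    refine ⟨x.left.w, ?_⟩
    have hx' : π x = 1 := hx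
    refine SemidirectProduct.ext ?_ (congrArg SemidirectProduct.right hx' :)
    exact Heis.ext (congrArg Multiplicative.toAdd (congrArg SemidirectProduct.left hx')) rfl
  refine ⟨Heis β ⋊[ψ] Multiplicative (ZMod (q ^ r)), inferInstance, inferInstance, π, y,
    ⟨?_, ?_, ?_, ?_, ?_, ?_⟩, ?_⟩
  · intro b
    exact ⟨⟨⟨b.left.toAdd, 0⟩, b.right⟩, rfl⟩
  · intro x hx
    obtain ⟨w, rfl⟩ := hker x hx
    refine mem_center_iff.2 fun g => SemidirectProduct.ext ?_ ?_
    · rw [mul_left, mul_left, left_inl, right_inl, map_one, MulAut.one_apply, hfix]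
      ext <;> simp [heis_mul, add_comm]
    · rw [mul_right, mul_right, right_inl, mul_one, one_mul]
  · intro ⟨x, hx⟩
    obtain ⟨w, rfl⟩ := hker x hx
    refine ⟨1, Subtype.ext ?_⟩
    rw [SubmonoidClass.coe_pow, OneMemClass.coe_one, pow_one, ← map_pow]
    have hpow : ∀ n : ℕ, (⟨0, w⟩ : Heis β) ^ n = ⟨0, n • w⟩ := by
      intro n
      induction n with
      | zero => simp [heis_one]
      | succ n ih => rw [pow_succ, ih]; ext <;> simp [heis_mul, succ_nsmul]
    rw [hpow, hZ, show (⟨0, 0⟩ : Heis β) = 1 from rfl, map_one]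
  · exact SemidirectProduct.map_inr _ _ _ _
  · show y ^ (q ^ r) = 1
    rw [← map_pow, ← ofAdd_nsmul, nsmul_one, ZMod.natCast_self]; rfl
  · refine eq_top_iff.2 fun x _ => ?_
    rw [← inl_left_mul_inr_right x]
    refine mul_mem (mem_sup_left ?_) (mem_sup_right ?_)
    · let L := (commutator (Heis β ⋊[ψ] Multiplicative (ZMod (q ^ r)))).comap inl
      have hlift : ∀ u : K, ∃ w : Z, (⟨u, w⟩ : Heis β) ∈ L := by
        intro u
        have h1 : (z : K) - 1 ≠ 0 := sub_ne_zero.2 (zne hζ)
        let v : Heis β := ⟨((z : K) - 1)⁻¹ * u, 0⟩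
        refine ⟨(scale z hinv v * v⁻¹).w, ?_⟩
        have hm : scale z hinv v * v⁻¹ ∈ L := by
          show inl (scale z hinv v * v⁻¹) ∈ commutator (Heis β ⋊[ψ] Multiplicative (ZMod (q ^ r)))
          rw [map_mul, map_inv, ← hψ1, inl_aut, map_inv]
          exact commutator_mem_commutator (mem_top _) (mem_top _)
        have he : scale z hinv v * v⁻¹ = ⟨u, (scale z hinv v * v⁻¹).w⟩ := by
          ext
          · show (z : K) * (((z : K) - 1)⁻¹ * u) + -(((z : K) - 1)⁻¹ * u) = u
            field_simp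
            ring
          · rfl
        rwa [← he]
      have hcen : ∀ w : Z, (⟨0, w⟩ : Heis β) ∈ L := by
        intro w
        induction hspan w using AddSubgroup.closure_induction with
        | mem c hc =>
          obtain ⟨u, v, rfl⟩ := hc
          obtain ⟨w₁, h1⟩ := hlift u
          obtain ⟨w₂, h2⟩ := hlift v
          have := mul_mem (mul_mem (mul_mem h1 h2) (inv_mem h1)) (inv_mem h2)
          rwa [← commutatorElement_def, heis_commutator] at this
        | zero => exact one_mem L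
        | add c d _ _ hc hd =>
          have := mul_mem hc hd
          simpa [heis_mul] using this
        | neg c _ hc =>
          have := inv_mem hc
          simpa [heis_inv] using this
      obtain ⟨w, hw⟩ := hlift x.left.u
      have := mul_mem hw (hcen (x.left.w - w))
      rw [heis_mul] at this
      have h2 : x.left ∈ L := by simpa using this
      exact h2
    · obtain ⟨n, hn⟩ := hgen x.right
      rw [hn, map_pow]
      exact pow_mem (mem_zpowers _) n
  · rw [SemidirectProduct.card, Nat.card_congr heisEquiv, Nat.card_prod,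
      Nat.card_congr Multiplicative.toAdd, Nat.card_zmod]

/-- The universal extension. -/
theorem exists_universal {a : ℕ} (hpq : p ≠ q) (ha : a = orderOf (p : ZMod q))
    (hK : Nat.card K = p ^ a) (hζ : IsPrimitiveRoot (z : K) q) :
    ∃ (E : Type) (_ : Group E) (_ : Finite E) (π : E →* Base z (q ^ r) hz) (y : E),
      IsExt z (q ^ r) hz p π y ∧
        Nat.card E = p ^ (if a % 2 = 1 then a else 3 * a / 2) * q ^ r := by
  haveI : CharP K p := charP_K (p := p)
  by_cases hodd : a % 2 = 1
  · obtain ⟨E, hg, hf, π, y, h, hc⟩ := exists_model (p := p) (z := z) (hz := hz) (r := r) (Z := PUnit)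
      (fun _ => rfl) hζ 0 (fun _ _ => rfl) (fun w => by
        rw [Subsingleton.elim w 0]; exact zero_mem _)
    refine ⟨E, hg, hf, π, y, h, ?_⟩
    rw [if_pos hodd, hc, hK, Nat.card_unique, mul_one]
  have ha0 : 0 < a := ha ▸ ord_pos hpq
  obtain ⟨b, hb⟩ : ∃ b, a = 2 * b := ⟨a / 2, by omega⟩
  have hb0 : 0 < b := by omega
  let σ : K →+* K := iterateFrobenius K p b
  have hσ : ∀ x, σ x = x ^ p ^ b := fun x => iterateFrobenius_def p b x
  have hσσ : ∀ x, σ (σ x) = x := fun x => by
    haveI := Fintype.ofFinite K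
    rw [hσ, hσ, ← pow_mul, ← pow_add, ← two_mul, ← hb, ← hK, Nat.card_eq_fintype_card,
      FiniteField.pow_card]
  have hpb : (p : ZMod q) ^ b = -1 := by
    have h1 : ((p : ZMod q) ^ b) ^ 2 = 1 := by
      rw [← pow_mul, mul_comm, ← hb, ha, pow_orderOf_eq_one]
    refine (sq_eq_one_iff.1 h1).resolve_left fun h2 => ?_
    have := Nat.le_of_dvd hb0 (ha ▸ orderOf_dvd_of_pow_eq_one h2)
    omega
  have hσz : σ (z : K) = (z : K)⁻¹ := by
    rw [hσ]
    refine eq_inv_of_mul_eq_one_left ?_
    rw [← pow_succ, hζ.pow_eq_one_iff_dvd, ← ZMod.natCast_eq_zero_iff]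
    simp [hpb]
  have hzz : σ (z : K) ≠ (z : K) := by
    rw [hσ]
    intro h
    have h1 : (z : K) ^ p ^ b = (z : K) ^ 1 := by rw [h, pow_one]
    have h2 : ((p ^ b : ℕ) : ZMod q) = ((1 : ℕ) : ZMod q) := by
      rw [ZMod.natCast_eq_natCast_iff']
      exact hζ.pow_inj (Nat.mod_lt _ hq.out.pos) (Nat.mod_lt _ hq.out.pos) (by
        rw [← pow_eq_pow_mod _ hζ.pow_eq_one, ← pow_eq_pow_mod _ hζ.pow_eq_one]; exact h1)
    push_cast at h2
    have := Nat.le_of_dvd hb0 (ha ▸ orderOf_dvd_of_pow_eq_one h2)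
    omega
  let δ : K →+ K := σ.toAddMonoidHom - AddMonoidHom.id K
  have hδ : ∀ x, δ x = σ x - x := fun x => rfl
  set Zs := δ.ker with hZs
  have hZcard : Nat.card Zs ≤ p ^ b := by
    classical
    haveI := Fintype.ofFinite K
    have hdeg : (Polynomial.X ^ p ^ b - Polynomial.X : Polynomial K).natDegree = p ^ b :=
      FiniteField.X_pow_card_pow_sub_X_natDegree_eq K hb0.ne' hp.out.one_lt
    have hne := FiniteField.X_pow_card_pow_sub_X_ne_zero K hb0.ne' hp.out.one_lt
    rw [Nat.card_eq_fintype_card, ← hdeg]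
    refine le_trans ?_ ((Polynomial.X ^ p ^ b - Polynomial.X : Polynomial K).card_roots')
    refine le_trans ?_ (Multiset.toFinset_card_le _)
    rw [Fintype.card_subtype]
    refine Finset.card_le_card fun x hx => ?_
    have hx' : δ x = 0 := (Finset.mem_filter.1 hx).2
    rw [hδ, sub_eq_zero, hσ] at hx'
    rw [Multiset.mem_toFinset, Polynomial.mem_roots hne]
    simp [hx', sub_eq_zero]
  have hLmem : ∀ x, (z : K) * x + σ ((z : K) * x) ∈ Zs := fun x => by
    rw [hZs, AddMonoidHom.mem_ker, hδ, map_add, hσσ]; ring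
  let L : K →+ Zs := AddMonoidHom.mk' (fun x => ⟨(z : K) * x + σ ((z : K) * x), hLmem x⟩)
    (fun x x' => Subtype.ext (by
      show _ = ((z : K) * x + σ ((z : K) * x)) + ((z : K) * x' + σ ((z : K) * x'))
      simp only [mul_add, map_add]; ring))
  let β : K →+ K →+ Zs :=
    AddMonoidHom.mk' (fun u => L.comp ((AddMonoidHom.mulLeft u).comp σ.toAddMonoidHom))
      (fun u u' => AddMonoidHom.ext fun v => by
        show L ((u + u') * σ v) = L (u * σ v) + L (u' * σ v)
        rw [add_mul, map_add])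
  have hβ : ∀ u v, β u v = L (u * σ v) := fun u v => rfl
  -- the pairing is onto the fixed field
  let D := δ.range
  have hinj : Function.Injective (L.comp D.subtype) := by
    rw [injective_iff_map_eq_zero]
    rintro ⟨d, x, rfl⟩ h
    refine Subtype.ext ?_
    have h1 : (z : K) * δ x + σ ((z : K) * δ x) = 0 := congrArg Subtype.val h
    have h2 : σ (δ x) = -δ x := by rw [hδ, map_sub, hσσ]; ring
    rw [map_mul, h2, mul_neg, ← sub_eq_add_neg, ← sub_mul, mul_eq_zero] at h1
    exact h1.resolve_left (sub_ne_zero.2 hzz.symm)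
  have hDcard : Nat.card Zs * Nat.card D = p ^ b * p ^ b := by
    rw [← pow_add, ← two_mul, ← hb, ← hK, ← δ.ker.card_mul_index, AddSubgroup.index_ker]
  have hle := Nat.card_le_card_of_injective _ hinj
  have hZeq : Nat.card Zs = p ^ b := by
    refine le_antisymm hZcard ?_
    by_contra hlt
    push Not at hlt
    have := Nat.mul_lt_mul_of_lt_of_le hlt (hle.trans hZcard) (pow_pos hp.out.pos b)
    omega
  have hsurj : Function.Surjective (L.comp D.subtype) := by
    refine (hinj.bijective_of_nat_card_le ?_).2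
    rw [hZeq] at hDcard ⊢
    exact (Nat.eq_of_mul_eq_mul_left (pow_pos hp.out.pos b) hDcard).ge
  obtain ⟨E, hg, hf, π, y, h, hc⟩ := exists_model (p := p) (z := z) (hz := hz) (r := r) (Z := Zs)
    (fun w => Subtype.ext (by
      rw [AddSubmonoidClass.coe_nsmul, nsmul_eq_mul, CharP.cast_eq_zero, zero_mul]; rfl)) hζ β
    (fun u v => by
      rw [hβ, hβ, map_mul σ, hσz]
      congr 1
      rw [mul_mul_mul_comm, mul_inv_cancel₀ z.ne_zero, one_mul])
    (fun w => by
      obtain ⟨⟨d, x, rfl⟩, rfl⟩ := hsurj w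
      refine AddSubgroup.subset_closure ⟨-x, 1, ?_⟩
      rw [hβ, hβ, map_one, mul_one, one_mul, map_neg, map_neg, map_neg, sub_neg_eq_add]
      show L (σ x - x) = -L x + L (σ x)
      rw [map_sub]; abel)
  refine ⟨E, hg, hf, π, y, h, ?_⟩
  rw [if_neg hodd, hc, hK, hZeq, ← pow_add]
  congr 2
  omega

end Cfsg.Agent.SchmidtUniv
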